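import Mathlib
import Groth.Prelude.Def_Smoothing
import Groth.Agent.StdSmooth.Strictly
import Groth.Agent.SmoothRetract.Basic

/-!
Néron desingularisation at a strictly standard element with an approximate section.
-/

set_option autoImplicit false
set_option linter.style.haveILetI false
set_option linter.unusedSimpArgs false

universe u

namespace Groth.Agent.Desing

open MvPolynomial

theorem exists_taylor {R E : Type*} [CommRing R] [CommRing E] [Algebra R E] {σ : Type*} [Fintype σ]
    (a : σ → R) (t : E) (u : σ → E) (p : MvPolynomial σ R) :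
    ∃ Q : E, aeval (fun i => algebraMap R E (a i) + t * u i) p =
      algebraMap R E (eval a p) + t * (∑ i, algebraMap R E (eval a (pderiv i p)) * u i) + t ^ 2 * Q := by
  classical
  induction p using MvPolynomial.induction_on with
  | C x => exact ⟨0, by simp⟩
  | add p q hp hq =>
    obtain ⟨P, hP⟩ := hp
    obtain ⟨Q, hQ⟩ := hq
    refine ⟨P + Q, ?_⟩
    simp only [map_add, hP, hQ, add_mul, Finset.sum_add_distrib]
    ring
  | mul_X p k hp =>
    obtain ⟨P, hP⟩ := hp
    refine ⟨P * (algebraMap R E (a k) + t * u k) + (∑ i, algebraMap R E (eval a (pderiv i p)) * u i) * u k, ?_⟩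
    have hsum : ∑ i, algebraMap R E (eval a (pderiv i (p * X k))) * u i =
        (∑ i, algebraMap R E (eval a (pderiv i p)) * u i) * algebraMap R E (a k) +
          algebraMap R E (eval a p) * u k := by
      have hk : ∑ i, algebraMap R E (eval a p) * algebraMap R E (eval a (pderiv i (X k : MvPolynomial σ R))) * u i =
          algebraMap R E (eval a p) * u k := by
        rw [Finset.sum_eq_single k]
        · rw [pderiv_X_self, map_one, map_one, mul_one]
        · intro i _ hi
          rw [pderiv_X_of_ne hi.symm, map_zero, map_zero, mul_zero, zero_mul]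
        · simp
      simp only [pderiv_mul, map_add, map_mul, eval_X, add_mul, Finset.sum_add_distrib, hk, Finset.sum_mul]
      congr 1
      exact Finset.sum_congr rfl fun i _ => by ring
    rw [map_mul, aeval_X, hP, hsum, map_mul, eval_X, map_mul]
    ring

theorem pow_three_mul {R : Type*} [CommRing R] (π r : R)
    (hr : ∀ x : R, π ^ 2 * x = 0 → π * (r * x) = 0) (x : R) (hx : π ^ 4 * x = 0) :
    π * (r ^ 3 * x) = 0 := by
  have h1 : π * (r * (π ^ 2 * x)) = 0 := hr _ (by linear_combination hx)
  have h2 : π * (r * (π * (r * x))) = 0 := hr _ (by linear_combination h1)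
  have h3 : π * (r * (r ^ 2 * x)) = 0 := hr _ (by linear_combination h2)
  linear_combination h3

/-- In a flat algebra in which `r` is invertible, `π`-torsion of order four has order one. -/
theorem mul_eq_zero_of_pow_four {R D : Type u} [CommRing R] [CommRing D] [Algebra R D] [Module.Flat R D]
    (π r : R) (hr : ∀ x : R, π ^ 2 * x = 0 → π * (r * x) = 0) (hu : IsUnit (algebraMap R D r))
    (x : D) (hx : algebraMap R D π ^ 4 * x = 0) : algebraMap R D π * x = 0 := by
  obtain ⟨k, a, y, hxy, ha⟩ := Module.Flat.isTrivialRelation_of_sum_smul_eq_zero (R := R) (M := D)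
    (ι := Unit) (f := fun _ => π ^ 4) (x := fun _ => x)
    (by simpa [Algebra.smul_def] using hx)
  refine (hu.pow 3).mul_right_eq_zero.mp ?_
  rw [show x = _ from hxy (), Finset.mul_sum, Finset.mul_sum]
  refine Finset.sum_eq_zero fun j _ => ?_
  have h := ha j
  rw [Fintype.sum_unique] at h
  have h' := congrArg (algebraMap R D) (pow_three_mul π r hr _ h)
  rw [map_mul, map_mul, map_pow, map_zero] at h'
  rw [Algebra.smul_def]
  linear_combination (y j) * h'

theorem det_sub_one_mem {P : Type*} [CommRing P] {ι : Type*} [Fintype ι] [DecidableEq ι] (I : Ideal P)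
    (M : Matrix ι ι P) (h : ∀ i j, M i j - (1 : Matrix ι ι P) i j ∈ I) : M.det - 1 ∈ I := by
  rw [← Ideal.Quotient.eq, RingHom.map_det, map_one]
  have : (Ideal.Quotient.mk I).mapMatrix M = 1 := by
    refine Matrix.ext fun i j => ?_
    have h1 : Ideal.Quotient.mk I (M i j) = Ideal.Quotient.mk I ((1 : Matrix ι ι P) i j) :=
      Ideal.Quotient.eq.mpr (h i j)
    change Ideal.Quotient.mk I (M i j) = _
    rw [h1, Matrix.one_apply, Matrix.one_apply]
    split <;> simp
  rw [this, Matrix.det_one]

theorem exists_desingularize {R Λ A : Type u} [CommRing R] [CommRing Λ] [Algebra R Λ]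
    (π : R) (hΛ : ∀ x : Λ, π ^ 2 • x = 0 → π • x = 0)
    [CommRing A] [Algebra R A] [Algebra.FinitePresentation R A] (φ : A →ₐ[R] Λ)
    (hπ : Smoothing.IsStrictlyStandard R A (algebraMap R A π))
    (ρ : A →ₐ[R] R ⧸ Ideal.span {π ^ 4})
    (hρ : ∀ (a : A) (r : R), Ideal.Quotient.mk (Ideal.span {π ^ 4}) r = ρ a →
      algebraMap R Λ r - φ a ∈ Ideal.span {algebraMap R Λ (π ^ 4)}) :
    ∃ (B : Type u) (_ : CommRing B) (_ : Algebra R B), Algebra.FinitePresentation R B ∧
      ∃ (α : A →ₐ[R] B) (β : B →ₐ[R] Λ), β.comp α = φ ∧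
        ∀ r : R, (∀ x : R, π ^ 2 * x = 0 → π * (r * x) = 0) →
          algebraMap R B r ∈ Smoothing.singularIdeal R B := by
  classical
  haveI hAsm : Algebra.Smooth R (Localization.Away (algebraMap R A π)) :=
    Groth.Agent.StdSmooth.smooth_away_of_strictly _ hπ
  obtain ⟨Pr, hspan, hkill⟩ := hπ
  obtain ⟨n, m, c, hcn, hcm, f, hom, hsurj, hker⟩ := Pr
  dsimp only [Smoothing.KillsTail] at hspan hkill
  let lead : Fin c → Fin m := Fin.castLE hcm
  have hf0 : ∀ j, hom (f j) = 0 := fun j => by
    have : f j ∈ RingHom.ker hom.toRingHom := hker ▸ Ideal.subset_span ⟨j, rfl⟩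
    exact this
  choose a ha using fun i => Ideal.Quotient.mk_surjective (ρ (hom (X i)))
  have hρhom : ∀ p, ρ (hom p) = Ideal.Quotient.mk (Ideal.span {π ^ 4}) (eval a p) := by
    intro p
    refine AlgHom.congr_fun (φ₁ := ρ.comp hom)
      (φ₂ := (Ideal.Quotient.mkₐ R _).comp (aeval a)) (MvPolynomial.algHom_ext fun i => ?_) p
    simp [ha]
  have hdvd : ∀ x : R, Ideal.Quotient.mk (Ideal.span {π ^ 4}) x = 0 → ∃ z, x = π ^ 4 * z := fun x hx => by
    obtain ⟨z, hz⟩ := Ideal.mem_span_singleton'.mp (Ideal.Quotient.eq_zero_iff_mem.mp hx)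
    exact ⟨z, by rw [← hz, mul_comm]⟩
  choose b hb using fun j => hdvd (eval a (f j)) (by rw [← hρhom, hf0, map_zero])
  have hμ : ∀ i, ∃ μ : Λ, φ (hom (X i)) = algebraMap R Λ (a i) + algebraMap R Λ π ^ 4 * μ := fun i => by
    obtain ⟨z, hz⟩ := Ideal.mem_span_singleton'.mp (hρ (hom (X i)) (a i) (ha i))
    exact ⟨-z, by rw [map_pow] at hz; linear_combination hz⟩
  choose μ hμ using hμ
  let J : Fin m → Fin n → R := fun j i => eval a (pderiv i (f j))
  obtain ⟨lam, hlam⟩ := Ideal.mem_span_range_iff_exists_fun.mp hspan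
  choose lam' hlam' using fun cols => hsurj (lam cols)
  let Jc : (Fin c → Fin n) → Matrix (Fin c) (Fin c) R := fun cols => Matrix.of fun j k => J (lead j) (cols k)
  have hJc : ∀ cols, (Jc cols).det = eval a (Smoothing.jacobianMinor f lead cols) :=
    fun cols => ((eval a).map_det _).symm
  obtain ⟨s, hs⟩ := hdvd (π - ∑ cols, eval a (lam' cols) * (Jc cols).det) (by
    rw [map_sub, map_sum, sub_eq_zero]
    have h := congrArg ρ hlam
    rw [AlgHom.commutes, map_sum] at h
    refine h.symm.trans (Finset.sum_congr rfl fun cols _ => ?_)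
    rw [hJc, ← map_mul, ← hρhom, map_mul hom, map_mul ρ, hlam', map_mul]
    )
  let π' : R := π * (1 - π ^ 3 * s)
  let G : Fin n → Fin c → R := fun i k => ∑ cols, eval a (lam' cols) *
    ∑ l, if cols l = i then (Jc cols).adjugate l k else 0
  have hJG : ∀ j k, ∑ i, J (lead j) i * G i k = if j = k then π' else 0 := by
    intro j k
    calc ∑ i, J (lead j) i * G i k
        = ∑ cols, eval a (lam' cols) * (Jc cols * (Jc cols).adjugate) j k := by
          simp only [G, Finset.mul_sum, Matrix.mul_apply]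
          rw [Finset.sum_comm]
          refine Finset.sum_congr rfl fun cols _ => ?_
          rw [Finset.sum_comm]
          refine Finset.sum_congr rfl fun l _ => ?_
          simp only [mul_ite, mul_zero, Finset.sum_ite_eq, Finset.mem_univ, if_true, Jc, Matrix.of_apply]
          ring
      _ = (∑ cols, eval a (lam' cols) * (Jc cols).det) * (1 : Matrix (Fin c) (Fin c) R) j k := by
          rw [Finset.sum_mul]
          refine Finset.sum_congr rfl fun cols _ => ?_
          rw [Matrix.mul_adjugate, Matrix.smul_apply, smul_eq_mul, mul_assoc]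
      _ = _ := by
          rw [Matrix.one_apply, mul_ite, mul_one, mul_zero,
            show ∑ cols, eval a (lam' cols) * (Jc cols).det = π' by simp only [π']; linear_combination -hs]
  -- the polynomial ring
  let y : Fin n → (MvPolynomial (Fin n ⊕ Fin c) R) := fun i => X (Sum.inl i)
  let w : Fin c → (MvPolynomial (Fin n ⊕ Fin c) R) := fun k => X (Sum.inr k)
  let u : Fin n → (MvPolynomial (Fin n ⊕ Fin c) R) := fun i => C π * y i + ∑ k, C (G i k) * w k
  choose Q hQ using fun j => exists_taylor (R := R) (E := (MvPolynomial (Fin n ⊕ Fin c) R)) a (C π ^ 3) u (f j)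
  let Fr : Fin m → (MvPolynomial (Fin n ⊕ Fin c) R) := fun j => aeval (fun i => algebraMap R (MvPolynomial (Fin n ⊕ Fin c) R) (a i) + C π ^ 3 * u i) (f j)
  let e : Fin m → (MvPolynomial (Fin n ⊕ Fin c) R) := fun j => C π * C (b j) + (∑ i, C (J j i) * u i) + C π ^ 3 * Q j
  let Eq : Fin c → (MvPolynomial (Fin n ⊕ Fin c) R) := fun j => C (b (lead j)) + (∑ i, C (J (lead j) i) * y i) +
    C (1 - π ^ 3 * s) * w j + C π ^ 2 * Q (lead j)
  have hFe : ∀ j, Fr j = C π ^ 3 * e j := fun j => by
    simp only [Fr, hQ, e]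
    rw [hb j, MvPolynomial.algebraMap_eq, map_mul, map_pow]
    ring
  have hJu : ∀ j, ∑ i, C (J (lead j) i) * u i =
      C π * (∑ i, C (J (lead j) i) * y i) + C π' * w j := fun j => by
    simp only [u, mul_add, Finset.sum_add_distrib, Finset.mul_sum]
    congr 1
    · exact Finset.sum_congr rfl fun i _ => by ring
    · rw [Finset.sum_comm]
      have e1 : ∀ k, ∑ i, C (J (lead j) i) * (C (G i k) * w k) = C (∑ i, J (lead j) i * G i k) * w k := fun k => by
        rw [map_sum, Finset.sum_mul]
        exact Finset.sum_congr rfl fun i _ => by rw [map_mul, mul_assoc]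
      simp only [e1, hJG]
      rw [Finset.sum_eq_single j]
      · rw [if_pos rfl]
      · intro k _ hk
        rw [if_neg hk.symm, map_zero, zero_mul]
      · simp
  have heE : ∀ j, e (lead j) = C π * Eq j := fun j => by
    simp only [e, Eq, hJu, π', map_mul]
    ring
  -- the tail
  let sub : MvPolynomial (Fin n) R →ₐ[R] (MvPolynomial (Fin n ⊕ Fin c) R) := aeval (fun i => algebraMap R (MvPolynomial (Fin n ⊕ Fin c) R) (a i) + C π ^ 3 * u i)
  have htail : ∀ j : Fin m, c ≤ (j : ℕ) → ∃ (q : Fin c → (MvPolynomial (Fin n ⊕ Fin c) R)) (cc : Fin m → Fin m → (MvPolynomial (Fin n ⊕ Fin c) R)),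
      C π * Fr j = ∑ l, q l * Fr (lead l) + ∑ k, ∑ k', cc k k' * (Fr k * Fr k') := by
    intro j hj
    obtain ⟨x, hx, z, hz, hxz⟩ := Submodule.mem_sup.mp (hkill (C π) (hom.commutes π) j hj)
    have himg : f '' {j' : Fin m | (j' : ℕ) < c} = Set.range (f ∘ lead) := by
      ext t
      constructor
      · rintro ⟨i, hi, rfl⟩; exact ⟨⟨i, hi⟩, rfl⟩
      · rintro ⟨i, rfl⟩; exact ⟨lead i, i.2, rfl⟩
    rw [himg] at hx
    obtain ⟨q, hq⟩ := Ideal.mem_span_range_iff_exists_fun.mp hx
    rw [sq, Ideal.span_mul_span'] at hz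
    have hz' : z ∈ Ideal.span (Set.range fun p : Fin m × Fin m => f p.1 * f p.2) := by
      refine Ideal.span_mono ?_ hz
      rintro _ ⟨_, ⟨k, rfl⟩, _, ⟨k', rfl⟩, rfl⟩
      exact ⟨(k, k'), rfl⟩
    obtain ⟨cc, hcc⟩ := Ideal.mem_span_range_iff_exists_fun.mp hz'
    refine ⟨fun l => sub (q l), fun k k' => sub (cc (k, k')), ?_⟩
    have h := congrArg sub hxz
    rw [← hq, ← hcc, map_add, map_sum, map_sum, Fintype.sum_prod_type, map_mul] at h
    simp only [map_mul] at h
    rw [show sub (C π) = C π from sub.commutes π] at h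
    exact h.symm
  let cc : Fin m → Fin m → Fin m → (MvPolynomial (Fin n ⊕ Fin c) R) := fun j =>
    if h : c ≤ (j : ℕ) then (htail j h).choose_spec.choose else 0
  let M : Matrix (Fin m) (Fin m) (MvPolynomial (Fin n ⊕ Fin c) R) := Matrix.of fun j k' => ∑ k, cc j k k' * e k
  let N : Matrix (Fin m) (Fin m) (MvPolynomial (Fin n ⊕ Fin c) R) := 1 - ((C π : (MvPolynomial (Fin n ⊕ Fin c) R)) ^ 2) • M
  let D₀ : Matrix (Fin c) (Fin c) (MvPolynomial (Fin n ⊕ Fin c) R) := Matrix.of fun j k => pderiv (Sum.inr k) (Eq j)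
  have hNdet : N.det - 1 ∈ Ideal.span {C π} := det_sub_one_mem _ _ fun i j => by
    simp only [N, Matrix.sub_apply, Matrix.smul_apply, smul_eq_mul]
    rw [sub_sub_cancel_left, Ideal.mem_span_singleton]
    exact Dvd.intro (-(C π * M i j)) (by ring)
  have hDdet : D₀.det - 1 ∈ Ideal.span {C π} := det_sub_one_mem _ _ fun j k => by
    rw [Ideal.mem_span_singleton]
    have h1 : ∀ i, pderiv (Sum.inr k : Fin n ⊕ Fin c) (y i) = 0 := fun i =>
      pderiv_X_of_ne (Sum.inl_ne_inr)
    have h2 : pderiv (Sum.inr k : Fin n ⊕ Fin c) (w j) = (1 : Matrix (Fin c) (Fin c) (MvPolynomial (Fin n ⊕ Fin c) R)) j k := by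
      rcases eq_or_ne j k with rfl | hjk
      · rw [Matrix.one_apply_eq]; exact pderiv_X_self _
      · rw [Matrix.one_apply_ne hjk]; exact pderiv_X_of_ne (fun h => hjk (Sum.inr_injective h))
    refine Dvd.intro (C π * pderiv (Sum.inr k) (Q (lead j)) - C π ^ 2 * C s * (1 : Matrix (Fin c) (Fin c) (MvPolynomial (Fin n ⊕ Fin c) R)) j k) ?_
    simp only [D₀, Matrix.of_apply, Eq, map_add, map_sum, ← map_pow, map_neg, map_sub, pderiv_mul, pderiv_C, pderiv_one, h1, h2, zero_mul, add_zero, zero_add, sub_zero, zero_sub, one_mul, neg_zero, Derivation.map_one_eq_zero,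
      mul_zero, Finset.sum_const_zero, map_sub, map_one, map_mul, map_pow, pderiv_pow, pderiv_C, zero_mul, sub_zero, add_zero]
    ring
  -- the algebra
  let rels : Fin c ⊕ Fin m → (MvPolynomial (Fin n ⊕ Fin c) R) := Sum.elim Eq Fr
  let B := (MvPolynomial (Fin n ⊕ Fin c) R) ⧸ Ideal.span (Set.range rels)
  let q₀ : (MvPolynomial (Fin n ⊕ Fin c) R) →ₐ[R] B := Ideal.Quotient.mkₐ R _
  have hq₀ : Function.Surjective q₀ := Ideal.Quotient.mk_surjective
  have hq₀E : ∀ j, q₀ (Eq j) = 0 := fun j =>
    Ideal.Quotient.eq_zero_iff_mem.mpr (Ideal.subset_span ⟨Sum.inl j, rfl⟩)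
  have hq₀F : ∀ j, q₀ (Fr j) = 0 := fun j =>
    Ideal.Quotient.eq_zero_iff_mem.mpr (Ideal.subset_span ⟨Sum.inr j, rfl⟩)
  haveI : Algebra.FinitePresentation R (MvPolynomial (Fin n ⊕ Fin c) R) := inferInstanceAs (Algebra.FinitePresentation R (MvPolynomial _ R))
  haveI hBfp : Algebra.FinitePresentation R B :=
    Algebra.FinitePresentation.quotient (Submodule.fg_span (Set.finite_range _))
  let α : A →ₐ[R] B := AlgHom.liftOfSurjective hom hsurj (q₀.comp sub) (fun v hv => by
    have hle : Ideal.span (Set.range f) ≤ RingHom.ker (q₀.comp sub) := by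
      rw [Ideal.span_le]
      rintro _ ⟨j, rfl⟩
      exact hq₀F j
    exact hle (hker ▸ hv))
  -- the map to Λ
  let tp : Λ := algebraMap R Λ π
  have hkillΛ : ∀ x : Λ, tp ^ 4 * x = 0 → tp * x = 0 := by
    intro x hx
    have hh : ∀ z : Λ, tp ^ 2 * z = 0 → tp * z = 0 := fun z hz => by
      have := hΛ z (by rw [Algebra.smul_def, map_pow]; exact hz)
      rwa [Algebra.smul_def] at this
    have h1 : tp * (tp ^ 2 * x) = 0 := hh _ (by linear_combination hx)
    have h2 : tp * (tp * x) = 0 := hh _ (by linear_combination h1)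
    exact hh x (by linear_combination h2)
  let g₀ : (MvPolynomial (Fin n ⊕ Fin c) R) →ₐ[R] Λ := aeval (Sum.elim μ fun _ => 0)
  have hg₀u : ∀ i, g₀ (u i) = tp * μ i := fun i => by simp [g₀, u, y, w, tp]
  let δ : Fin c → Λ := fun j => g₀ (Eq j)
  have hδ : ∀ j, tp * δ j = 0 := by
    intro j
    refine hkillΛ _ ?_
    have h1 : g₀ (Fr (lead j)) = φ (hom (f (lead j))) := by
      change g₀ (sub (f (lead j))) = _
      refine AlgHom.congr_fun (φ₁ := g₀.comp sub) (φ₂ := φ.comp hom) (MvPolynomial.algHom_ext fun i => ?_) _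
      simp only [AlgHom.comp_apply, sub, aeval_X, map_add, map_mul, map_pow, hg₀u, hμ, AlgHom.commutes]
      simp [g₀, tp]
      ring
    rw [hf0, map_zero, hFe, heE, map_mul, map_mul, map_pow] at h1
    simp only [g₀, aeval_C] at h1
    rw [← h1]
    simp only [δ, tp, g₀]
    ring
  let g : (MvPolynomial (Fin n ⊕ Fin c) R) →ₐ[R] Λ := aeval (Sum.elim μ fun k => -δ k)
  have hGδ : ∀ i k, tp * (algebraMap R Λ (G i k) * δ k) = 0 := fun i k => by
    rw [mul_left_comm, hδ, mul_zero]
  have hgsub : g.comp sub = φ.comp hom := MvPolynomial.algHom_ext fun i => by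
    have h0 : tp ^ 3 * (∑ k, algebraMap R Λ (G i k) * -δ k) = 0 := by
      rw [Finset.mul_sum]
      refine Finset.sum_eq_zero fun k _ => ?_
      linear_combination -(tp ^ 2) * hGδ i k
    simp only [AlgHom.comp_apply, sub, aeval_X, map_add, map_mul, map_pow, hμ, u, map_sum,
      AlgHom.commutes]
    simp only [g, y, w, aeval_X, aeval_C, Sum.elim_inl, Sum.elim_inr]
    linear_combination h0
  have hgF : ∀ j, g (Fr j) = 0 := fun j => by
    rw [show g (Fr j) = (g.comp sub) (f j) from rfl, hgsub, AlgHom.comp_apply, hf0, map_zero]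
  have hgE : ∀ j, g (Eq j) = 0 := by
    intro j
    let I : Ideal Λ := Ideal.span (Set.range δ)
    have hgg : ∀ p : (MvPolynomial (Fin n ⊕ Fin c) R), g p - g₀ p ∈ I := fun p => by
      rw [← Ideal.Quotient.eq]
      refine AlgHom.congr_fun (φ₁ := (Ideal.Quotient.mkₐ R I).comp g) (φ₂ := (Ideal.Quotient.mkₐ R I).comp g₀)
        (MvPolynomial.algHom_ext fun i => ?_) p
      rcases i with i | k
      · simp [g, g₀]
      · simp only [AlgHom.comp_apply, g, g₀, aeval_X, Sum.elim_inr, Ideal.Quotient.mkₐ_eq_mk, map_zero,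
          map_neg, neg_eq_zero]
        exact Ideal.Quotient.eq_zero_iff_mem.mpr (Ideal.subset_span ⟨k, rfl⟩)
    have hI : ∀ z ∈ I, tp * z = 0 := fun z hz => by
      induction hz using Submodule.span_induction with
      | mem x hx => obtain ⟨k, rfl⟩ := hx; exact hδ k
      | zero => rw [mul_zero]
      | add x y _ _ hx hy => rw [mul_add, hx, hy, add_zero]
      | smul r x _ hx => rw [smul_eq_mul, mul_left_comm, hx, mul_zero]
    have e0 : g₀ (Eq j) = δ j := rfl
    have hgC : ∀ r, g (C r) = algebraMap R Λ r := fun r => g.commutes r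
    have hg0C : ∀ r, g₀ (C r) = algebraMap R Λ r := fun r => g₀.commutes r
    have e1 : g (Eq j) - g₀ (Eq j) = algebraMap R Λ (1 - π ^ 3 * s) * (-δ j) +
        tp ^ 2 * (g (Q (lead j)) - g₀ (Q (lead j))) := by
      simp only [Eq, map_add, map_mul, map_sum, map_pow, hgC, hg0C, y, w]
      simp only [g, g₀, aeval_X, Sum.elim_inl, Sum.elim_inr, tp]
      ring
    rw [e0, map_sub, map_one, map_mul, map_pow] at e1
    have h3 := hI _ (hgg (Q (lead j)))
    linear_combination e1 + (tp ^ 2 * algebraMap R Λ s) * hδ j + tp * h3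
  let β : B →ₐ[R] Λ := Ideal.Quotient.liftₐ _ g (fun v hv => by
    refine (Ideal.span_le (I := RingHom.ker g)).mpr ?_ hv
    rintro _ ⟨i, rfl⟩
    rcases i with j | j
    · exact hgE j
    · exact hgF j)
  refine ⟨B, inferInstance, inferInstance, hBfp, α, β, AlgHom.ext fun x => ?_, fun r hr => ?_⟩
  · obtain ⟨v, rfl⟩ := hsurj x
    change β (α (hom v)) = _
    rw [AlgHom.liftOfSurjective_apply]
    exact AlgHom.congr_fun hgsub v
  -- smoothness
  rw [Smoothing.singularIdeal, PrimeSpectrum.mem_vanishingIdeal]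
  intro 𝔔 h𝔔
  by_contra hrQ
  refine h𝔔 ?_
  by_cases hpQ : algebraMap R B π ∈ 𝔔.asIdeal
  · -- primes containing π
    let h : (MvPolynomial (Fin n ⊕ Fin c) R) := D₀.det * (N.det * C r)
    have hone : ∀ p : (MvPolynomial (Fin n ⊕ Fin c) R), p - 1 ∈ Ideal.span {C π} → q₀ p ∉ 𝔔.asIdeal := by
      intro p hp hmem
      obtain ⟨z, hz⟩ := Ideal.mem_span_singleton'.mp hp
      refine 𝔔.isPrime.ne_top ((Ideal.eq_top_iff_one _).mpr ?_)
      have e : (1 : B) = q₀ p - q₀ z * algebraMap R B π := by
        have := congrArg q₀ hz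
        rw [map_mul, map_sub, map_one, show q₀ (C π) = algebraMap R B π from q₀.commutes π] at this
        rw [this]; ring
      rw [e]
      exact sub_mem hmem (Ideal.mul_mem_left _ _ hpQ)
    have hh : q₀ h ∉ 𝔔.asIdeal := by
      intro hmem
      simp only [h, map_mul] at hmem
      rcases 𝔔.isPrime.mem_or_mem hmem with h1 | h1
      · exact hone _ hDdet h1
      rcases 𝔔.isPrime.mem_or_mem h1 with h2 | h2
      · exact hone _ hNdet h2
      · exact hrQ ((q₀.commutes r) ▸ h2)
    refine Algebra.basicOpen_subset_smoothLocus_iff_smooth.mpr ?_ (show 𝔔 ∈ PrimeSpectrum.basicOpen (q₀ h) from hh)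
    let B₁ := (MvPolynomial (Fin n ⊕ Fin c) R) ⧸ Ideal.span (Set.range Eq)
    let q₁ : (MvPolynomial (Fin n ⊕ Fin c) R) →ₐ[R] B₁ := Ideal.Quotient.mkₐ R _
    let D := Localization.Away (q₁ h)
    let θ : (MvPolynomial (Fin n ⊕ Fin c) R) →ₐ[R] D := (IsScalarTower.toAlgHom R B₁ D).comp q₁
    have hθh : IsUnit (θ h) := IsLocalization.Away.algebraMap_isUnit (q₁ h)
    obtain ⟨hθD, hθN, hθr⟩ : IsUnit (θ D₀.det) ∧ IsUnit (θ N.det) ∧ IsUnit (θ (C r)) := by
      simp only [h, map_mul, IsUnit.mul_iff] at hθh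
      exact hθh
    have hθE : ∀ j, θ (Eq j) = 0 := fun j => by
      change algebraMap B₁ D (q₁ (Eq j)) = 0
      rw [show q₁ (Eq j) = 0 from Ideal.Quotient.eq_zero_iff_mem.mpr (Ideal.subset_span ⟨j, rfl⟩), map_zero]
    haveI : Algebra.IsStandardSmooth R D := by
      let P1 : Algebra.PreSubmersivePresentation R B₁ (Fin n ⊕ Fin c) (Fin c) :=
        { toPresentation := Algebra.Presentation.naive (v := Eq)
          map := Sum.inr
          map_inj := Sum.inr_injective }
      let P2 := (Algebra.PreSubmersivePresentation.localizationAway D (q₁ h)).comp P1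
      have hP1 : P1.jacobian = q₁ D₀.det := by
        have hM : P1.jacobiMatrix = D₀.transpose := by
          ext i j : 1
          rw [Algebra.PreSubmersivePresentation.jacobiMatrix_apply]
          rfl
        rw [Algebra.PreSubmersivePresentation.jacobian_eq_jacobiMatrix_det, hM, Matrix.det_transpose]
        rfl
      have hjac : IsUnit P2.jacobian := by
        simp only [P2, Algebra.PreSubmersivePresentation.comp_jacobian_eq_jacobian_smul_jacobian,
          Algebra.PreSubmersivePresentation.localizationAway_jacobian, Algebra.smul_def, hP1]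
        exact hθD.mul (IsLocalization.Away.algebraMap_isUnit (q₁ h))
      exact Algebra.SubmersivePresentation.isStandardSmooth ⟨P2, hjac⟩
    have hθC : ∀ x, θ (C x) = algebraMap R D x := fun x => θ.commutes x
    let tD : D := algebraMap R D π
    have hθF : ∀ j, θ (Fr j) = 0 := by
      let z : Fin m → D := fun j => tD ^ 4 * θ (e j)
      have hz : (θ.toRingHom.mapMatrix N).mulVec z = 0 := by
        funext j
        simp only [N, map_sub, map_one, Matrix.sub_mulVec, Matrix.one_mulVec, Pi.sub_apply, Pi.zero_apply,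
          sub_eq_zero]
        by_cases hj : c ≤ (j : ℕ)
        · have h0 := congrArg θ ((htail j hj).choose_spec.choose_spec)
          simp only [map_mul, map_add, map_sum, hFe, heE, hθE, mul_zero, Finset.sum_const_zero, zero_add,
            map_pow, hθC] at h0
          simp only [z, Matrix.mulVec, dotProduct, RingHom.mapMatrix_apply, Matrix.map_apply,
            Matrix.smul_apply, smul_eq_mul, M, Matrix.of_apply, AlgHom.toRingHom_eq_coe, RingHom.coe_coe,
            map_mul, map_sum, map_pow, hθC, cc, dif_pos hj]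
          refine (show tD ^ 4 * θ (e j) = tD * (tD ^ 3 * θ (e j)) by ring).trans (h0.trans ?_)
          rw [Finset.sum_comm]
          refine Finset.sum_congr rfl fun k' _ => ?_
          simp only [tD]
          rw [Finset.mul_sum, Finset.sum_mul]
          refine Finset.sum_congr rfl fun k _ => by ring
        · have h0 : e j = C π * Eq ⟨j, not_le.mp hj⟩ := heE ⟨j, not_le.mp hj⟩
          simp only [z, h0, map_mul, hθE, mul_zero, Matrix.mulVec, dotProduct, RingHom.mapMatrix_apply,
            Matrix.map_apply, Matrix.smul_apply, smul_eq_mul, M, Matrix.of_apply, cc, dif_neg hj,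
            Pi.zero_apply, zero_mul, Finset.sum_const_zero, map_zero]
      have hz0 : z = 0 := Groth.Agent.SmoothRetract.eq_zero_of_det _ _
        (by rw [← RingHom.map_det]; exact hθN) hz
      intro j
      have h1 := mul_eq_zero_of_pow_four π r hr (hθC r ▸ hθr) (θ (e j)) (congrFun hz0 j)
      rw [hFe, map_mul, map_pow, hθC]
      linear_combination (algebraMap R D π) ^ 2 * h1
    let fB : B →ₐ[R] D := Ideal.Quotient.liftₐ _ θ (fun v hv => by
      refine (Ideal.span_le (I := RingHom.ker θ)).mpr ?_ hv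
      rintro _ ⟨i, rfl⟩
      rcases i with j | j
      · exact hθE j
      · exact hθF j)
    let fwd : Localization.Away (q₀ h) →ₐ[R] D :=
      IsLocalization.liftAlgHom (M := Submonoid.powers (q₀ h)) (f := fB) (by
        rintro ⟨_, k, rfl⟩
        rw [map_pow]
        exact hθh.pow k)
    let g₁ : B₁ →ₐ[R] Localization.Away (q₀ h) := Ideal.Quotient.liftₐ _
      ((IsScalarTower.toAlgHom R B (Localization.Away (q₀ h))).comp q₀) (fun v hv => by
      refine (Ideal.span_le (I := RingHom.ker ((IsScalarTower.toAlgHom R B (Localization.Away (q₀ h))).comp q₀))).mpr ?_ hv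
      rintro _ ⟨j, rfl⟩
      change algebraMap B _ (q₀ (Eq j)) = 0
      rw [hq₀E, map_zero])
    let bwd : D →ₐ[R] Localization.Away (q₀ h) :=
      IsLocalization.liftAlgHom (M := Submonoid.powers (q₁ h)) (f := g₁) (by
        rintro ⟨_, k, rfl⟩
        rw [map_pow]
        exact (IsLocalization.Away.algebraMap_isUnit (q₀ h)).pow k)
    have hfwd : ∀ p : (MvPolynomial (Fin n ⊕ Fin c) R), fwd (algebraMap B _ (q₀ p)) = θ p := fun p => by
      simp only [fwd, IsLocalization.liftAlgHom_apply, IsLocalization.lift_eq]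
      rfl
    have hbwd : ∀ p : (MvPolynomial (Fin n ⊕ Fin c) R), bwd (θ p) = algebraMap B _ (q₀ p) := fun p => by
      simp only [bwd, θ, IsLocalization.liftAlgHom_apply, AlgHom.comp_apply,
        IsScalarTower.toAlgHom_apply, IsLocalization.lift_eq]
      rfl
    have e1 : fwd.comp bwd = AlgHom.id R D := by
      refine IsLocalization.algHom_ext (Submonoid.powers (q₁ h)) ?_
      refine AlgHom.ext fun x => ?_
      obtain ⟨p, rfl⟩ := Ideal.Quotient.mk_surjective x
      change fwd (bwd (θ p)) = θ p
      rw [hbwd, hfwd]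
    have e2 : bwd.comp fwd = AlgHom.id R (Localization.Away (q₀ h)) := by
      refine IsLocalization.algHom_ext (Submonoid.powers (q₀ h)) ?_
      refine AlgHom.ext fun x => ?_
      obtain ⟨p, rfl⟩ := hq₀ x
      change bwd (fwd (algebraMap B _ (q₀ p))) = _
      rw [hfwd, hbwd]
      rfl
    haveI : Algebra.Smooth R D := inferInstance
    exact Algebra.Smooth.of_equiv (AlgEquiv.ofAlgHom bwd fwd e2 e1)
  · -- primes not containing π
    refine Algebra.basicOpen_subset_smoothLocus_iff_smooth.mpr ?_
      (show 𝔔 ∈ PrimeSpectrum.basicOpen (algebraMap R B π) from hpQ)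
    let L := Localization.Away (algebraMap R B π)
    let La := Localization.Away (algebraMap R A π)
    haveI : Algebra.FinitePresentation B L := IsLocalization.Away.finitePresentation (algebraMap R B π)
    refine ⟨Algebra.FormallySmooth.of_comp_surjective ?_, Algebra.FinitePresentation.trans R B L⟩
    intro T _ _ K hK v
    let αL : La →ₐ[R] L := IsLocalization.liftAlgHom (M := Submonoid.powers (algebraMap R A π))
      (f := (IsScalarTower.toAlgHom R B L).comp α) (by
        rintro ⟨_, k, rfl⟩
        rw [map_pow, AlgHom.comp_apply, AlgHom.commutes]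
        exact (IsLocalization.Away.algebraMap_isUnit (algebraMap R B π)).pow k)
    obtain ⟨v₁, hv₁⟩ := Algebra.FormallySmooth.comp_surjective R La K hK (v.comp αL)
    let tT : T := algebraMap R T π
    have htT : IsUnit tT := by
      have : IsUnit (algebraMap A La (algebraMap R A π)) := IsLocalization.Away.algebraMap_isUnit _
      rw [← IsScalarTower.algebraMap_apply] at this
      have h := this.map v₁
      rwa [AlgHom.commutes] at h
    obtain ⟨ti, hti⟩ := htT.exists_left_inv
    let xv : Fin n → T := fun i => v₁ (algebraMap A La (hom (X i)))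
    let qL : (MvPolynomial (Fin n ⊕ Fin c) R) →ₐ[R] L := (IsScalarTower.toAlgHom R B L).comp q₀
    choose wv hwv using fun k => Ideal.Quotient.mk_surjective (v (qL (w k)))
    let yv : Fin n → T := fun i => ti * (ti ^ 3 * (xv i - algebraMap R T (a i)) - ∑ k, algebraMap R T (G i k) * wv k)
    let vP : (MvPolynomial (Fin n ⊕ Fin c) R) →ₐ[R] T := aeval (Sum.elim yv wv)
    have hvu : ∀ i, tT ^ 3 * vP (u i) = xv i - algebraMap R T (a i) := fun i => by
      have e : vP (u i) = ti ^ 3 * (xv i - algebraMap R T (a i)) := by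
        simp only [u, vP, y, w, map_add, map_mul, map_sum, aeval_X, aeval_C, Sum.elim_inl, Sum.elim_inr, yv]
        change tT * _ + _ = _
        linear_combination (ti ^ 3 * (xv i - algebraMap R T (a i)) - ∑ k, algebraMap R T (G i k) * wv k) * hti
      rw [e, ← mul_assoc, ← mul_pow, mul_comm tT, hti, one_pow, one_mul]
    have hvsub : vP.comp sub = (v₁.comp (IsScalarTower.toAlgHom R A La)).comp hom :=
      MvPolynomial.algHom_ext fun i => by
        simp only [AlgHom.comp_apply, sub, aeval_X, map_add, map_mul, map_pow, AlgHom.commutes]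
        rw [show vP (C π) = tT from vP.commutes π, hvu]
        exact add_sub_cancel _ _
    have hvF : ∀ j, vP (Fr j) = 0 := fun j => by
      rw [show vP (Fr j) = (vP.comp sub) (f j) from rfl, hvsub]
      simp [hf0]
    have hvE : ∀ j, vP (Eq j) = 0 := fun j => by
      have h := hvF (lead j)
      rw [hFe, heE, map_mul, map_mul, map_pow, show vP (C π) = tT from vP.commutes π, ← mul_assoc] at h
      exact ((htT.pow 3).mul htT).mul_right_eq_zero.mp h
    let vB : B →ₐ[R] T := Ideal.Quotient.liftₐ _ vP (fun z hz => by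
      refine (Ideal.span_le (I := RingHom.ker vP)).mpr ?_ hz
      rintro _ ⟨i, rfl⟩
      rcases i with j | j
      · exact hvE j
      · exact hvF j)
    let vL : L →ₐ[R] T := IsLocalization.liftAlgHom (M := Submonoid.powers (algebraMap R B π)) (f := vB) (by
      rintro ⟨_, k, rfl⟩
      rw [map_pow, AlgHom.commutes]
      exact htT.pow k)
    refine ⟨vL, IsLocalization.algHom_ext (Submonoid.powers (algebraMap R B π)) ?_⟩
    refine Ideal.Quotient.algHom_ext R (MvPolynomial.algHom_ext fun i => ?_)
    change Ideal.Quotient.mk K (vL (algebraMap B L (q₀ (X i)))) = v (qL (X i))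
    have hvLb : ∀ z, vL (algebraMap B L z) = vB z := fun z => by
      simp only [vL, IsLocalization.liftAlgHom_apply, IsLocalization.lift_eq]
      rfl
    rw [hvLb, show vB (q₀ (X i)) = vP (X i) from rfl]
    have hxv : ∀ i, Ideal.Quotient.mk K (xv i) = v (qL (sub (X i))) := fun i => by
      refine (AlgHom.congr_fun hv₁ _).trans ?_
      rw [AlgHom.comp_apply]
      refine congrArg v ?_
      simp only [αL, IsLocalization.liftAlgHom_apply, IsLocalization.lift_eq]
      change algebraMap B L (α (hom (X i))) = _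
      rw [AlgHom.liftOfSurjective_apply]
      rfl
    rcases i with i | k
    · have hsubX : sub (X i) = algebraMap R (MvPolynomial (Fin n ⊕ Fin c) R) (a i) + C π ^ 3 * u i := aeval_X _ _
      have h1 := hxv i
      rw [hsubX] at h1
      simp only [u, map_add, map_mul, map_pow, map_sum, AlgHom.commutes,
        show ∀ x, qL (C x) = algebraMap R L x from qL.commutes, ← hwv] at h1
      have hti' : Ideal.Quotient.mk K ti * algebraMap R (T ⧸ K) π = 1 := by
        have := congrArg (Ideal.Quotient.mk K) hti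
        rwa [map_mul, map_one] at this
      simp only [vP, aeval_X, Sum.elim_inl, yv, map_mul, map_sub, map_pow, map_sum]
      change _ = v (qL (y i))
      have hCT : ∀ x, Ideal.Quotient.mk K (algebraMap R T x) = algebraMap R (T ⧸ K) x := fun x => rfl
      simp only [show ∀ x, v (algebraMap R L x) = algebraMap R (T ⧸ K) x from v.commutes] at h1
      simp only [hCT, h1]
      linear_combination (v (qL (y i))) * hti' +
        (Ideal.Quotient.mk K ti * (algebraMap R (T ⧸ K) π * v (qL (y i)) +
          ∑ k, algebraMap R (T ⧸ K) (G i k) * Ideal.Quotient.mk K (wv k))) *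
        ((Ideal.Quotient.mk K ti * algebraMap R (T ⧸ K) π) ^ 2 + Ideal.Quotient.mk K ti * algebraMap R (T ⧸ K) π + 1) * hti'
    · simp only [vP, aeval_X, Sum.elim_inr]
      exact hwv k

end Groth.Agent.Desing
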