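import Mathlib
import Groth.Prelude.Def_Smoothing
import Groth.Agent.Desing.Core
import Groth.Agent.S6829

/-!
Néron desingularisation relative to a finitely presented algebra.
-/

set_option autoImplicit false
set_option linter.style.haveILetI false
set_option linter.unusedSimpArgs false

universe u

namespace Groth.Agent.Desing

open TensorProduct

theorem basicOpen_subset_of_mem_singularIdeal {R D : Type u} [CommRing R] [CommRing D] [Algebra R D]
    {h : D} (hh : h ∈ Smoothing.singularIdeal R D) :
    ↑(PrimeSpectrum.basicOpen h) ⊆ Algebra.smoothLocus R D := by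
  intro q hq
  by_contra hns
  rw [Smoothing.singularIdeal, PrimeSpectrum.mem_vanishingIdeal] at hh
  exact hq (hh q hns)

theorem exists_pow_annihilator {R D : Type u} [CommRing R] [IsNoetherianRing R] [CommRing D] [Algebra R D]
    [Algebra.FinitePresentation R D] (π : R) (hR : ∀ r : R, π ^ 2 * r = 0 → π * r = 0) {h : D}
    (hh : h ∈ Smoothing.singularIdeal R D) :
    ∃ k : ℕ, ∀ x : D, algebraMap R D π ^ 2 * x = 0 → algebraMap R D π * (h ^ k * x) = 0 := by
  classical
  haveI : IsNoetherianRing D := Algebra.FiniteType.isNoetherianRing R D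
  haveI : Algebra.Smooth R (Localization.Away h) :=
    Algebra.basicOpen_subset_smoothLocus_iff_smooth.mp (basicOpen_subset_of_mem_singularIdeal hh)
  let N : Ideal D := LinearMap.ker (LinearMap.mulLeft D (algebraMap R D π ^ 2))
  obtain ⟨S, hS⟩ : N.FG := IsNoetherian.noetherian N
  have hgen : ∀ x : D, algebraMap R D π ^ 2 * x = 0 → ∃ k : ℕ, algebraMap R D π * (h ^ k * x) = 0 := by
    intro x hx
    let L := Localization.Away h
    have h1 : algebraMap R L π * algebraMap D L x = 0 := by
      have hx' : algebraMap R L π ^ 4 * algebraMap D L x = 0 := by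
        have := congrArg (algebraMap D L) hx
        rw [map_mul, map_pow, map_zero, ← IsScalarTower.algebraMap_apply] at this
        linear_combination (algebraMap R L π) ^ 2 * this
      exact mul_eq_zero_of_pow_four π 1 (fun r hr => by rw [one_mul]; exact hR r hr)
        (by rw [map_one]; exact isUnit_one) _ hx'
    rw [IsScalarTower.algebraMap_apply R D L, ← map_mul,
      IsLocalization.map_eq_zero_iff (Submonoid.powers h)] at h1
    obtain ⟨⟨_, k, rfl⟩, hk⟩ := h1
    exact ⟨k, by linear_combination hk⟩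
  choose! k hk using hgen
  refine ⟨S.sup k, fun x hx => ?_⟩
  have hxS : x ∈ Submodule.span D (S : Set D) := (SetLike.ext_iff.mp hS x).mpr (show x ∈ N from hx)
  have hSN : ∀ y ∈ S, algebraMap R D π ^ 2 * y = 0 := fun y hy => by
    have : y ∈ N := (SetLike.ext_iff.mp hS y).mp (Submodule.subset_span hy)
    exact this
  clear hx
  induction hxS using Submodule.span_induction with
  | mem y hy =>
    obtain ⟨d, hd⟩ := Nat.exists_eq_add_of_le (Finset.le_sup (f := k) hy)
    rw [hd, pow_add]
    linear_combination (h ^ d) * hk y (hSN y hy)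
  | zero => simp
  | add a b _ _ ha hb => rw [mul_add, mul_add, ha, hb, add_zero]
  | smul c y _ hy => rw [smul_eq_mul]; linear_combination c * hy

theorem exists_desingularize_relative {R Λ A D : Type u} [CommRing R] [IsNoetherianRing R] [CommRing Λ]
    [Algebra R Λ] (π : R) (hR : ∀ r : R, π ^ 2 * r = 0 → π * r = 0)
    (hΛ : ∀ x : Λ, π ^ 2 • x = 0 → π • x = 0) [CommRing A] [Algebra R A] [Algebra.FinitePresentation R A]
    [CommRing D] [Algebra R D] [Algebra.FinitePresentation R D] (φ : A →ₐ[R] Λ) (δ : D →ₐ[R] Λ)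
    (hπ : Smoothing.IsStrictlyStandard R A (algebraMap R A π))
    (ψ : A →ₐ[R] D ⧸ Ideal.span {algebraMap R D (π ^ 4)})
    (hψ : ∀ (a : A) (d : D), Ideal.Quotient.mk (Ideal.span {algebraMap R D (π ^ 4)}) d = ψ a →
      δ d - φ a ∈ Ideal.span {algebraMap R Λ (π ^ 4)}) :
    ∃ (B : Type u) (_ : CommRing B) (_ : Algebra R B) (_ : Algebra D B) (_ : IsScalarTower R D B),
      Algebra.FinitePresentation R B ∧ ∃ (α : A →ₐ[R] B) (β : B →ₐ[R] Λ), β.comp α = φ ∧
        β.comp (IsScalarTower.toAlgHom R D B) = δ ∧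
        (Smoothing.singularIdeal R D).map (algebraMap D B) ≤ Smoothing.singularIdeal D B ∧
        (Smoothing.singularIdeal R D).map (algebraMap D B) ≤ Smoothing.singularIdeal R B := by
  classical
  letI : Algebra D Λ := δ.toRingHom.toAlgebra
  haveI : IsScalarTower R D Λ := IsScalarTower.of_algebraMap_eq fun x => (δ.commutes x).symm
  let p : D := algebraMap R D π
  let φ' : D ⊗[R] A →ₐ[D] Λ := Algebra.TensorProduct.lift (Algebra.ofId D Λ) φ fun _ _ => Commute.all _ _
  have hπ' : Smoothing.IsStrictlyStandard D (D ⊗[R] A) (algebraMap D (D ⊗[R] A) p) := by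
    have h := (Groth.Agent.S6829.result (R' := D) (algebraMap R A π)).2 hπ
    have e : algebraMap D (D ⊗[R] A) p = (1 : D) ⊗ₜ[R] algebraMap R A π := by
      rw [← IsScalarTower.algebraMap_apply R D (D ⊗[R] A), ← Algebra.TensorProduct.includeRight_apply,
        AlgHom.commutes]
    rw [e]
    exact h
  have hp4 : algebraMap R D (π ^ 4) = p ^ 4 := map_pow _ _ _
  let q4 : (D ⧸ Ideal.span {algebraMap R D (π ^ 4)}) →ₐ[D] D ⧸ Ideal.span {p ^ 4} :=
    Ideal.Quotient.factorₐ D (by rw [hp4])
  let ρ : D ⊗[R] A →ₐ[D] D ⧸ Ideal.span {p ^ 4} :=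
    Algebra.TensorProduct.lift (Algebra.ofId D _) ((q4.restrictScalars R).comp ψ) fun _ _ => Commute.all _ _
  have hρ : ∀ (a : D ⊗[R] A) (r : D), Ideal.Quotient.mk (Ideal.span {p ^ 4}) r = ρ a →
      algebraMap D Λ r - φ' a ∈ Ideal.span {algebraMap D Λ (p ^ 4)} := by
    let qΛ : Λ →ₐ[D] Λ ⧸ Ideal.span {algebraMap D Λ (p ^ 4)} := Ideal.Quotient.mkₐ D _
    let j : (D ⧸ Ideal.span {p ^ 4}) →ₐ[D] Λ ⧸ Ideal.span {algebraMap D Λ (p ^ 4)} :=
      Ideal.Quotient.liftₐ _ (qΛ.comp (Algebra.ofId D Λ)) (fun x hx => by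
        obtain ⟨z, rfl⟩ := Ideal.mem_span_singleton'.mp hx
        refine Ideal.Quotient.eq_zero_iff_mem.mpr ?_
        change algebraMap D Λ (z * p ^ 4) ∈ _
        rw [map_mul]
        exact Ideal.mul_mem_left _ _ (Ideal.subset_span rfl))
    have heq : j.comp ρ = qΛ.comp φ' := by
      refine Algebra.TensorProduct.ext (by ext) (AlgHom.ext fun a => ?_)
      obtain ⟨d, hd⟩ := Ideal.Quotient.mk_surjective (ψ a)
      change j (ρ ((1 : D) ⊗ₜ a)) = qΛ (φ' ((1 : D) ⊗ₜ a))
      simp only [ρ, φ', Algebra.TensorProduct.lift_tmul, map_one, one_mul, AlgHom.comp_apply,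
        AlgHom.coe_restrictScalars', ← hd]
      change Ideal.Quotient.mk _ (δ d) = Ideal.Quotient.mk _ (φ a)
      refine Ideal.Quotient.eq.mpr ?_
      have := hψ a d hd
      rwa [IsScalarTower.algebraMap_apply R D Λ, hp4] at this
    intro a r hr
    have h := AlgHom.congr_fun heq a
    rw [AlgHom.comp_apply, ← hr] at h
    exact Ideal.Quotient.eq.mp h
  obtain ⟨B, _, instDB, hB, α', β', hβα, hsm⟩ := exists_desingularize (Λ := Λ) p
    (fun x hx => by
      have h := hΛ x (by rw [← algebraMap_smul D (π ^ 2) x, map_pow]; exact hx)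
      rwa [← algebraMap_smul D π x] at h) φ' hπ' ρ hρ
  haveI := hB
  letI : Algebra R B := ((algebraMap D B).comp (algebraMap R D)).toAlgebra
  haveI : IsScalarTower R D B := IsScalarTower.of_algebraMap_eq' rfl
  haveI hBR : Algebra.FinitePresentation R B := Algebra.FinitePresentation.trans R D B
  let α : A →ₐ[R] B := (α'.restrictScalars R).comp Algebra.TensorProduct.includeRight
  let β : B →ₐ[R] Λ := β'.restrictScalars R
  have key : ∀ h ∈ Smoothing.singularIdeal R D,
      algebraMap D B h ∈ Smoothing.singularIdeal D B ∧ algebraMap D B h ∈ Smoothing.singularIdeal R B := by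
    intro h hh
    obtain ⟨k, hk⟩ := exists_pow_annihilator π hR hh
    have h1 := hsm (h ^ k) hk
    rw [map_pow] at h1
    have hrad : algebraMap D B h ∈ Smoothing.singularIdeal D B := by
      rw [Smoothing.singularIdeal, PrimeSpectrum.mem_vanishingIdeal] at h1 ⊢
      exact fun q hq => q.isPrime.mem_of_pow_mem k (h1 q hq)
    refine ⟨hrad, ?_⟩
    let L := Localization.Away (algebraMap D B h)
    let Dh := Localization.Away h
    haveI : Algebra.Smooth D L :=
      Algebra.basicOpen_subset_smoothLocus_iff_smooth.mp (basicOpen_subset_of_mem_singularIdeal hrad)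
    haveI : Algebra.Smooth R Dh :=
      Algebra.basicOpen_subset_smoothLocus_iff_smooth.mp (basicOpen_subset_of_mem_singularIdeal hh)
    let i : Dh →ₐ[D] L := IsLocalization.liftAlgHom (M := Submonoid.powers h) (f := Algebra.ofId D L) (by
      rintro ⟨_, j, rfl⟩
      rw [map_pow]
      change IsUnit (algebraMap D L h ^ j)
      rw [IsScalarTower.algebraMap_apply D B L]
      exact (IsLocalization.Away.algebraMap_isUnit _).pow j)
    letI : Algebra Dh L := i.toRingHom.toAlgebra
    haveI : IsScalarTower D Dh L := IsScalarTower.of_algebraMap_eq fun x => (i.commutes x).symm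
    haveI : IsScalarTower R Dh L := IsScalarTower.of_algebraMap_eq fun x => by
      rw [IsScalarTower.algebraMap_apply R D Dh, ← IsScalarTower.algebraMap_apply D Dh L,
        IsScalarTower.algebraMap_apply D B L, ← IsScalarTower.algebraMap_apply R D B,
        ← IsScalarTower.algebraMap_apply R B L]
    haveI : Algebra.FormallyEtale D Dh := Algebra.FormallyEtale.of_isLocalization (Submonoid.powers h)
    haveI : Algebra.FormallySmooth Dh L := Algebra.FormallySmooth.of_restrictScalars D Dh L
    haveI : Algebra.FinitePresentation Dh L :=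
      Algebra.FinitePresentation.of_restrict_scalars_finitePresentation D Dh L
    haveI : Algebra.Smooth Dh L := ⟨inferInstance, inferInstance⟩
    haveI : Algebra.Smooth R L := Algebra.Smooth.comp R Dh L
    rw [Smoothing.singularIdeal, PrimeSpectrum.mem_vanishingIdeal]
    intro q hq
    by_contra hmem
    exact hq (Algebra.basicOpen_subset_smoothLocus_iff_smooth.mpr ‹Algebra.Smooth R L› hmem)
  refine ⟨B, inferInstance, inferInstance, instDB, inferInstance, hBR, α, β, ?_, ?_, ?_, ?_⟩
  · apply AlgHom.ext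
    intro a
    change β' (α' ((1 : D) ⊗ₜ a)) = φ a
    rw [← AlgHom.comp_apply, hβα, Algebra.TensorProduct.lift_tmul, map_one, one_mul]
  · exact AlgHom.ext fun d => β'.commutes d
  · exact Ideal.map_le_iff_le_comap.mpr fun h hh => (key h hh).1
  · exact Ideal.map_le_iff_le_comap.mpr fun h hh => (key h hh).2

end Groth.Agent.Desing
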