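import Mathlib
import Groth.Prelude.Def_Smoothing
import Groth.Agent.Desing.Core
import Groth.Agent.S2108

/-!
The lifting lemma of Néron–Popescu desingularisation.
-/

set_option autoImplicit false
set_option linter.style.haveILetI false
set_option linter.unusedSimpArgs false

universe u

namespace Groth.Agent.Desing

open MvPolynomial

/-- Nakayama's determinant trick in the polynomial ring. -/
theorem exists_mul_mem_of_sup_sq {P C : Type u} [CommRing P] [CommRing C] (φ : P →+* C) (p : Ideal C) [p.IsPrime]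
    {m : ℕ} (f : Fin m → P) (hf : ∀ l, φ (f l) = 0) (L : Ideal P) (a : P) (ha : φ a ∉ p)
    (h : ∀ l, a * f l ∈ L ⊔ Ideal.span (Set.range f) ^ 2) :
    ∃ t, φ t ∉ p ∧ ∀ l, t * f l ∈ L := by
  classical
  have h' : ∀ l, ∃ M : Fin m → P, (∀ k, φ (M k) = 0) ∧ a * f l - ∑ k, M k * f k ∈ L := by
    intro l
    obtain ⟨x, hx, z, hz, hxz⟩ := Submodule.mem_sup.mp (h l)
    rw [sq, Ideal.span_mul_span'] at hz
    have hz' : z ∈ Ideal.span (Set.range fun p : Fin m × Fin m => f p.1 * f p.2) := by
      refine Ideal.span_mono ?_ hz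
      rintro _ ⟨_, ⟨k, rfl⟩, _, ⟨k', rfl⟩, rfl⟩
      exact ⟨(k, k'), rfl⟩
    obtain ⟨c, hc⟩ := Ideal.mem_span_range_iff_exists_fun.mp hz'
    refine ⟨fun k' => ∑ k, c (k, k') * f k, fun k' => by simp [hf], ?_⟩
    rw [← hxz, ← hc, Fintype.sum_prod_type, Finset.sum_comm]
    simp only [Finset.sum_mul, ← mul_assoc, add_sub_cancel_right]
    exact hx
  choose M hM0 hM using h'
  let N : Matrix (Fin m) (Fin m) P := a • 1 - Matrix.of M
  refine ⟨N.det, ?_, fun l => ?_⟩
  · have e : φ.mapMatrix N = φ a • 1 := by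
      refine Matrix.ext fun i j => ?_
      simp only [N, RingHom.mapMatrix_apply, Matrix.map_apply, Matrix.sub_apply, Matrix.smul_apply,
        Matrix.of_apply, map_sub, hM0, sub_zero, smul_eq_mul, map_mul, Matrix.one_apply]
      split <;> simp
    rw [RingHom.map_det, e, Matrix.det_smul, Matrix.det_one, mul_one, Fintype.card_fin]
    exact fun h => ha (Ideal.IsPrime.mem_of_pow_mem ‹_› _ h)
  · have hv : (((Ideal.Quotient.mk L).mapMatrix N).mulVec fun k => Ideal.Quotient.mk L (f k)) = 0 := by
      funext i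
      simp only [Matrix.mulVec, dotProduct, RingHom.mapMatrix_apply, Matrix.map_apply, ← map_mul,
        ← map_sum, Pi.zero_apply, Ideal.Quotient.eq_zero_iff_mem]
      simp only [N, Matrix.sub_apply, Matrix.smul_apply, Matrix.of_apply, sub_mul, Finset.sum_sub_distrib,
        Matrix.one_apply, smul_eq_mul, mul_ite, mul_one, mul_zero, ite_mul, zero_mul, Finset.sum_ite_eq,
        Finset.mem_univ, if_true]
      exact hM i
    have h2 := congrArg (((Ideal.Quotient.mk L).mapMatrix N).adjugate.mulVec ·) hv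
    simp only [Matrix.mulVec_mulVec, Matrix.adjugate_mul, Matrix.smul_mulVec, Matrix.one_mulVec,
      Matrix.mulVec_zero] at h2
    have h3 := congrFun h2 l
    simp only [Pi.smul_apply, smul_eq_mul, Pi.zero_apply, ← RingHom.map_det, ← map_mul,
      Ideal.Quotient.eq_zero_iff_mem] at h3
    exact h3

theorem exists_lifting {R Λ C : Type u} [CommRing R] [IsNoetherianRing R] [CommRing Λ]
    [Algebra R Λ] (π : R) (hR : ∀ r : R, π ^ 2 * r = 0 → π * r = 0)
    (hΛ : ∀ x : Λ, π ^ 2 • x = 0 → π • x = 0) [CommRing C] [Algebra R C]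
    [Algebra (R ⧸ Ideal.span {π ^ 2}) C] [IsScalarTower R (R ⧸ Ideal.span {π ^ 2}) C]
    [Algebra.FinitePresentation (R ⧸ Ideal.span {π ^ 2}) C]
    (g : C →ₐ[R] Λ ⧸ Ideal.span {algebraMap R Λ (π ^ 2)}) :
    ∃ (D : Type u) (_ : CommRing D) (_ : Algebra R D), Algebra.FinitePresentation R D ∧
      ∃ (δ : D →ₐ[R] Λ) (ψ : C →ₐ[R] D ⧸ Ideal.span {algebraMap R D π}),
        (∀ (c : C) (d : D) (l : Λ), Ideal.Quotient.mk (Ideal.span {algebraMap R D π}) d = ψ c →
          Ideal.Quotient.mk (Ideal.span {algebraMap R Λ (π ^ 2)}) l = g c →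
          δ d - l ∈ Ideal.span {algebraMap R Λ π}) ∧
        (∀ (Q : Ideal D) [Q.IsPrime], algebraMap R D π ∉ Q → Algebra.IsSmoothAt R Q) ∧
        (∀ (Q : Ideal (D ⧸ Ideal.span {algebraMap R D π})) [Q.IsPrime],
          Algebra.IsSmoothAt (R ⧸ Ideal.span {π ^ 2}) (Q.comap ψ) →
            Algebra.IsSmoothAt R (Q.comap (Ideal.Quotient.mk (Ideal.span {algebraMap R D π})))) := by
  classical
  obtain ⟨n, φb, hφb, hkfg⟩ := (inferInstance : Algebra.FinitePresentation (R ⧸ Ideal.span {π ^ 2}) C).out
  obtain ⟨m, fb, hfb⟩ := Submodule.fg_iff_exists_fin_generating_family.mp hkfg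
  let mR : R →+* R ⧸ Ideal.span {π ^ 2} := Ideal.Quotient.mk _
  choose f hf using fun j => MvPolynomial.map_surjective mR Ideal.Quotient.mk_surjective (fb j)
  let φ : MvPolynomial (Fin n) R →ₐ[R] C := aeval fun i => φb (X i)
  have hφmap : ∀ p, φb (map mR p) = φ p := fun p => by
    refine AlgHom.congr_fun
      (φ₁ := (φb.restrictScalars R).comp (mapAlgHom (Algebra.ofId R (R ⧸ Ideal.span {π ^ 2}))))
      (MvPolynomial.algHom_ext fun i => by simp [φ]) p
  have hφf : ∀ j, φ (f j) = 0 := fun j => by
    rw [← hφmap, hf]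
    have : fb j ∈ RingHom.ker φb.toRingHom := hfb ▸ Submodule.subset_span ⟨j, rfl⟩
    exact this
  have hφ : Function.Surjective φ := fun c => by
    obtain ⟨q, rfl⟩ := hφb c
    obtain ⟨p, rfl⟩ := MvPolynomial.map_surjective mR Ideal.Quotient.mk_surjective q
    exact ⟨p, (hφmap p).symm⟩
  have hmapker : ∀ p, map mR p = 0 → ∃ h, p = MvPolynomial.C (π ^ 2) * h := fun p hp => by
    have h1 : p ∈ RingHom.ker (map (σ := Fin n) mR) := hp
    rw [MvPolynomial.ker_map, Ideal.mk_ker, Ideal.map_span, Set.image_singleton] at h1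
    obtain ⟨h, hh⟩ := Ideal.mem_span_singleton'.mp h1
    exact ⟨h, by rw [← hh, mul_comm]⟩
  have hker : ∀ p, φ p = 0 → p ∈ Ideal.span (Set.range f) ⊔ Ideal.span {MvPolynomial.C (π ^ 2)} := fun p hp => by
    rw [← hφmap] at hp
    obtain ⟨c, hc⟩ := Ideal.mem_span_range_iff_exists_fun.mp ((SetLike.ext_iff.mp hfb (map mR p)).mpr hp)
    choose c' hc' using fun j => MvPolynomial.map_surjective mR Ideal.Quotient.mk_surjective (c j)
    obtain ⟨h, hh⟩ := hmapker (p - ∑ j, c' j * f j) (by simp [hc', hf, hc])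
    rw [← sub_add_cancel p (∑ j, c' j * f j)]
    exact add_mem (Submodule.mem_sup_right (hh ▸ Ideal.mul_mem_right _ _ (Ideal.subset_span rfl)))
      (Submodule.mem_sup_left (sum_mem fun j _ => Ideal.mul_mem_left _ _ (Ideal.subset_span ⟨j, rfl⟩)))
  choose lam hlam using fun i => Ideal.Quotient.mk_surjective (g (φ (X i)))
  have hgφ : ∀ p, Ideal.Quotient.mk (Ideal.span {algebraMap R Λ (π ^ 2)}) (aeval lam p) = g (φ p) := fun p => by
    refine AlgHom.congr_fun (φ₁ := (Ideal.Quotient.mkₐ R _).comp (aeval lam)) (φ₂ := g.comp φ)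
      (MvPolynomial.algHom_ext fun i => by simp [hlam]) p
  let tp : Λ := algebraMap R Λ π
  have hdiv : ∀ j, ∃ cj : Λ, aeval lam (f j) = tp ^ 2 * cj := fun j => by
    have h := hgφ (f j)
    rw [hφf, map_zero, Ideal.Quotient.eq_zero_iff_mem] at h
    obtain ⟨z, hz⟩ := Ideal.mem_span_singleton'.mp h
    exact ⟨z, by rw [← hz, map_pow, mul_comm]⟩
  choose cj hcj using hdiv
  -- the algebra
  let em : MvPolynomial (Fin n) R →ₐ[R] MvPolynomial (Fin n ⊕ Fin m) R := rename Sum.inl
  let yv : Fin m → MvPolynomial (Fin n ⊕ Fin m) R := fun j => X (Sum.inr j)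
  let rel0 : Fin m → MvPolynomial (Fin n ⊕ Fin m) R := fun j => em (f j) - MvPolynomial.C π * yv j
  let syz : Set (MvPolynomial (Fin n ⊕ Fin m) R) :=
    {e | ∃ (a : Fin m → MvPolynomial (Fin n) R) (h : MvPolynomial (Fin n) R),
      ∑ j, a j * f j = MvPolynomial.C (π ^ 2) * h ∧ e = ∑ j, em (a j) * yv j - MvPolynomial.C π * em h}
  obtain ⟨D, _, _, q₀, hq₀s, hq₀k⟩ : ∃ (D : Type u) (_ : CommRing D) (_ : Algebra R D)
      (q : MvPolynomial (Fin n ⊕ Fin m) R →ₐ[R] D),
      Function.Surjective q ∧ RingHom.ker q.toRingHom = Ideal.span (Set.range rel0 ∪ syz) :=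
    ⟨_, inferInstance, inferInstance, Ideal.Quotient.mkₐ R _, Ideal.Quotient.mk_surjective, Ideal.mk_ker⟩
  haveI : Algebra.FiniteType R D := Algebra.FiniteType.of_surjective q₀ hq₀s
  have hq₀span : ∀ z ∈ Set.range rel0 ∪ syz, q₀ z = 0 := fun z hz =>
    RingHom.mem_ker.mp ((SetLike.ext_iff.mp hq₀k z).mpr (Ideal.subset_span hz))
  haveI hDfp : Algebra.FinitePresentation R D := Algebra.FinitePresentation.of_finiteType.mp inferInstance
  have hq₀r : ∀ j, q₀ (rel0 j) = 0 := fun j =>
    hq₀span _ (Or.inl ⟨j, rfl⟩)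
  let δP : MvPolynomial (Fin n ⊕ Fin m) R →ₐ[R] Λ := aeval (Sum.elim lam fun j => tp * cj j)
  have hδem : ∀ p, δP (em p) = aeval lam p := fun p => by
    refine AlgHom.congr_fun (φ₁ := δP.comp em) (MvPolynomial.algHom_ext fun i => by simp [δP, em]) p
  have hδy : ∀ j, δP (yv j) = tp * cj j := fun j => by simp [δP, yv]
  have hδC : ∀ r, δP (MvPolynomial.C r) = algebraMap R Λ r := fun r => δP.commutes r
  let δ : D →ₐ[R] Λ := AlgHom.liftOfSurjective q₀ hq₀s δP (fun v hv => by
    refine RingHom.mem_ker.mpr (RingHom.mem_ker.mp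
      ((Ideal.span_le (I := RingHom.ker δP)).mpr ?_ ((SetLike.ext_iff.mp hq₀k v).mp hv)))
    rintro e (⟨j, rfl⟩ | ⟨a, h, hah, rfl⟩)
    · simp only [SetLike.mem_coe, RingHom.mem_ker, rel0, map_sub, map_mul, hδem, hδy, hδC, hcj, tp]
      ring
    · simp only [SetLike.mem_coe, RingHom.mem_ker, map_sub, map_sum, map_mul, hδem, hδy, hδC]
      have h2 := congrArg (aeval (R := R) lam) hah
      simp only [map_sum, map_mul, hcj, aeval_C, map_pow] at h2
      have h3 : tp ^ 2 * ((∑ j, aeval lam (a j) * cj j) - aeval lam h) = 0 := by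
        rw [mul_sub]
        simp only [Finset.mul_sum]
        have e2 : ∑ j, tp ^ 2 * (aeval lam (a j) * cj j) = ∑ j, aeval lam (a j) * (tp ^ 2 * cj j) :=
          Finset.sum_congr rfl fun j _ => by ring
        rw [e2]
        exact sub_eq_zero.mpr h2
      have h4 := hΛ _ (by rw [Algebra.smul_def, map_pow]; exact h3)
      rw [Algebra.smul_def, mul_sub, Finset.mul_sum] at h4
      have e3 : ∑ j, aeval lam (a j) * (tp * cj j) = ∑ j, tp * (aeval lam (a j) * cj j) :=
        Finset.sum_congr rfl fun j _ => by ring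
      rw [e3]
      exact h4)
  let qD : MvPolynomial (Fin n) R →ₐ[R] D ⧸ Ideal.span {algebraMap R D π} :=
    (Ideal.Quotient.mkₐ R _).comp (q₀.comp em)
  have hπD : Ideal.Quotient.mk (Ideal.span {algebraMap R D π}) (algebraMap R D π) = 0 :=
    Ideal.Quotient.eq_zero_iff_mem.mpr (Ideal.subset_span rfl)
  have hle : Ideal.span (Set.range f) ⊔ Ideal.span {MvPolynomial.C (π ^ 2)} ≤ RingHom.ker qD := by
    refine sup_le (Ideal.span_le.mpr ?_) (Ideal.span_le.mpr ?_)
    · rintro _ ⟨j, rfl⟩
      change Ideal.Quotient.mk _ (q₀ (em (f j))) = 0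
      have e : q₀ (em (f j)) = q₀ (rel0 j) + algebraMap R D π * q₀ (yv j) := by
        rw [← q₀.commutes π, ← map_mul, ← map_add, MvPolynomial.algebraMap_eq, sub_add_cancel]
      simp [e, hq₀r, hπD]
    · rintro _ rfl
      change Ideal.Quotient.mk _ (q₀ (em (MvPolynomial.C (π ^ 2)))) = 0
      rw [show em (MvPolynomial.C (π ^ 2)) = MvPolynomial.C (π ^ 2) from em.commutes _,
        show q₀ (MvPolynomial.C (π ^ 2)) = algebraMap R D (π ^ 2) from q₀.commutes _]
      simp [hπD]
  have hq0 : ∀ v, φ v = 0 → qD v = 0 := fun v hv => RingHom.mem_ker.mp (hle (hker v hv))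
  let ψ : C →ₐ[R] D ⧸ Ideal.span {algebraMap R D π} := AlgHom.liftOfSurjective φ hφ qD
    (fun v hv => RingHom.mem_ker.mpr (hq0 v (RingHom.mem_ker.mp hv)))
  refine ⟨D, inferInstance, inferInstance, hDfp, δ, ψ, ?_, ?_, ?_⟩
  · intro c d l hd hl
    obtain ⟨p, rfl⟩ := hφ c
    rw [AlgHom.liftOfSurjective_apply] at hd
    obtain ⟨z, hz⟩ := Ideal.mem_span_singleton'.mp (Ideal.Quotient.eq.mp hd)
    rw [← hgφ] at hl
    obtain ⟨w, hw⟩ := Ideal.mem_span_singleton'.mp (Ideal.Quotient.eq.mp hl)
    have hd' : δ d = aeval lam p + δ z * tp := by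
      have := congrArg δ hz
      rw [map_mul, map_sub, AlgHom.commutes] at this
      have e0 : δ ((q₀.comp em) p) = aeval lam p := (AlgHom.liftOfSurjective_apply ..).trans (hδem p)
      linear_combination (norm := skip) e0 - this
      ring_nf; simp [tp]
    refine Ideal.mem_span_singleton'.mpr ⟨δ z - w * tp, ?_⟩
    rw [hd']
    rw [map_pow] at hw
    linear_combination -hw
  · intro Q _ hpQ
    refine Algebra.basicOpen_subset_smoothLocus_iff_smooth.mpr ?_
      (show (⟨Q, inferInstance⟩ : PrimeSpectrum D) ∈ PrimeSpectrum.basicOpen (algebraMap R D π) from hpQ)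
    let L := Localization.Away (algebraMap R D π)
    haveI : Algebra.FinitePresentation D L := IsLocalization.Away.finitePresentation (algebraMap R D π)
    refine ⟨Algebra.FormallySmooth.of_comp_surjective ?_, Algebra.FinitePresentation.trans R D L⟩
    intro T _ _ K hK v
    have hpL : IsUnit (algebraMap R L π) := by
      rw [IsScalarTower.algebraMap_apply R D L]
      exact IsLocalization.Away.algebraMap_isUnit _
    have hpTK : IsUnit (Ideal.Quotient.mk K (algebraMap R T π)) := by
      have := hpL.map v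
      rwa [AlgHom.commutes] at this
    have htT : IsUnit (algebraMap R T π) :=
      (IsNilpotent.isUnit_quotient_mk_iff ⟨2, hK⟩).mp hpTK
    obtain ⟨ti, hti⟩ := htT.exists_left_inv
    let qL : MvPolynomial (Fin n ⊕ Fin m) R →ₐ[R] L := (IsScalarTower.toAlgHom R D L).comp q₀
    choose xv hxv using fun i => Ideal.Quotient.mk_surjective (v (qL (X (Sum.inl i))))
    let vP : MvPolynomial (Fin n ⊕ Fin m) R →ₐ[R] T := aeval (Sum.elim xv fun j => ti * aeval xv (f j))
    have hvem : ∀ p, vP (em p) = aeval xv p := fun p => by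
      refine AlgHom.congr_fun (φ₁ := vP.comp em) (MvPolynomial.algHom_ext fun i => by simp [vP, em]) p
    have hvy : ∀ j, vP (yv j) = ti * aeval xv (f j) := fun j => by simp [vP, yv]
    have hvC : ∀ r, vP (MvPolynomial.C r) = algebraMap R T r := fun r => vP.commutes r
    let vD : D →ₐ[R] T := AlgHom.liftOfSurjective q₀ hq₀s vP (fun z hz => by
      refine RingHom.mem_ker.mpr (RingHom.mem_ker.mp
        ((Ideal.span_le (I := RingHom.ker vP)).mpr ?_ ((SetLike.ext_iff.mp hq₀k z).mp hz)))
      rintro e (⟨j, rfl⟩ | ⟨a, h, hah, rfl⟩)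
      · simp only [SetLike.mem_coe, RingHom.mem_ker, rel0, map_sub, map_mul, hvem, hvy, hvC]
        linear_combination -(aeval xv (f j)) * hti
      · simp only [SetLike.mem_coe, RingHom.mem_ker, map_sub, map_sum, map_mul, hvem, hvy, hvC]
        have h2 := congrArg (aeval (R := R) xv) hah
        simp only [map_sum, map_mul, aeval_C, map_pow] at h2
        have e2 : ∑ j, aeval xv (a j) * (ti * aeval xv (f j)) = ti * ∑ j, aeval xv (a j) * aeval xv (f j) := by
          rw [Finset.mul_sum]; exact Finset.sum_congr rfl fun j _ => by ring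
        rw [e2, h2]
        linear_combination (algebraMap R T π * aeval xv h) * hti)
    let vL : L →ₐ[R] T := IsLocalization.liftAlgHom (M := Submonoid.powers (algebraMap R D π)) (f := vD) (by
      rintro ⟨_, k, rfl⟩
      rw [map_pow, AlgHom.commutes]
      exact htT.pow k)
    refine ⟨vL, IsLocalization.algHom_ext (Submonoid.powers (algebraMap R D π)) ?_⟩
    refine (AlgHom.cancel_right hq₀s).mp (MvPolynomial.algHom_ext fun i => ?_)
    change Ideal.Quotient.mk K (vL (algebraMap D L (q₀ (X i)))) = v (qL (X i))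
    have hvLb : ∀ z, vL (algebraMap D L z) = vD z := fun z => by
      simp only [vL, IsLocalization.liftAlgHom_apply, IsLocalization.lift_eq]
      rfl
    rw [hvLb, show vD (q₀ (X i)) = vP (X i) from AlgHom.liftOfSurjective_apply ..]
    rcases i with i | j
    · simp only [vP, aeval_X, Sum.elim_inl, hxv]
    · have hx : (Ideal.Quotient.mkₐ R K).comp (aeval xv) = (v.comp qL).comp em :=
        MvPolynomial.algHom_ext fun i => by simp [hxv, em]
      have e : qL (em (f j)) = algebraMap R L π * qL (yv j) := by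
        have h0 : qL (rel0 j) = 0 := by
          change algebraMap D L (q₀ (rel0 j)) = 0
          rw [hq₀r, map_zero]
        rw [map_sub, map_mul, sub_eq_zero] at h0
        rw [h0]
        exact congrArg (· * _) (qL.commutes π)
      have hf' : Ideal.Quotient.mk K (aeval xv (f j)) = algebraMap R (T ⧸ K) π * v (qL (yv j)) := by
        refine (AlgHom.congr_fun hx (f j)).trans ?_
        rw [AlgHom.comp_apply, AlgHom.comp_apply, e, map_mul, AlgHom.commutes]
      simp only [vP, aeval_X, Sum.elim_inr, map_mul, hf']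
      have hti' : Ideal.Quotient.mk K ti * algebraMap R (T ⧸ K) π = 1 := by
        have := congrArg (Ideal.Quotient.mk K) hti
        rwa [map_mul, map_one] at this
      rw [← mul_assoc, hti', one_mul]
  · intro Q _ hsm
    let p := Q.comap ψ
    haveI : Algebra.IsSmoothAt (R ⧸ Ideal.span {π ^ 2}) p := hsm
    obtain ⟨a, hap, c, rows, cols, a', ha', hkill⟩ :=
      Groth.Agent.S2108.result fb φb hφb hfb.symm p
    obtain ⟨a1, ha1⟩ := hφ a
    have hΔ : φ (Smoothing.jacobianMinor f rows cols) ∉ p := by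
      intro h
      refine hap ?_
      rw [ha']
      refine Ideal.mul_mem_left _ _ ?_
      have e : map mR (Smoothing.jacobianMinor f rows cols) = Smoothing.jacobianMinor fb rows cols := by
        simp only [Smoothing.jacobianMinor, RingHom.map_det]
        refine congrArg Matrix.det (Matrix.ext fun i k => ?_)
        simp [← hf, pderiv_map]
      rwa [← hφmap, e] at h
    let L0 : Ideal (MvPolynomial (Fin n) R) :=
      Ideal.span (Set.range (f ∘ rows)) ⊔ Ideal.span {MvPolynomial.C (π ^ 2)}
    have hfl : ∀ l, a1 * f l ∈ L0 ⊔ Ideal.span (Set.range f) ^ 2 := by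
      intro l
      have h := hkill (map mR a1) ((hφmap a1).trans ha1) l
      have hmap : ∀ {ι : Type} (F : ι → MvPolynomial (Fin n) R),
          Ideal.span (Set.range fun i => map mR (F i)) = (Ideal.span (Set.range F)).map (map mR) := fun F => by
        rw [Ideal.map_span, ← Set.range_comp]; rfl
      rw [show (fb ∘ rows) = fun i => map mR (f (rows i)) from funext fun i => (hf _).symm,
        show fb = fun i => map mR (f i) from funext fun i => (hf i).symm, hmap, hmap, ← Ideal.map_pow,
        ← Ideal.map_sup, ← map_mul, Ideal.mem_map_iff_of_surjective _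
          (MvPolynomial.map_surjective mR Ideal.Quotient.mk_surjective)] at h
      obtain ⟨z, hz, hzx⟩ := h
      obtain ⟨h', hh'⟩ := hmapker (a1 * f l - z) (by rw [map_sub, hzx, sub_self])
      rw [← sub_add_cancel (a1 * f l) z, hh']
      refine add_mem ?_ ?_
      · exact Submodule.mem_sup_left (Submodule.mem_sup_right (Ideal.mul_mem_right _ _ (Ideal.subset_span rfl)))
      · exact (sup_le_sup_right (le_sup_left : Ideal.span (Set.range (f ∘ rows)) ≤ L0) (Ideal.span (Set.range f) ^ 2)) hz
    obtain ⟨t, htp, ht⟩ := exists_mul_mem_of_sup_sq φ.toRingHom p f hφf L0 a1 (ha1.symm ▸ hap) hfl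
    have ht' : ∀ l, ∃ (b : Fin c → MvPolynomial (Fin n) R) (h : MvPolynomial (Fin n) R),
        t * f l = (∑ i, b i * f (rows i)) + MvPolynomial.C (π ^ 2) * h := fun l => by
      obtain ⟨x, hx, z, hz, hxz⟩ := Submodule.mem_sup.mp (ht l)
      obtain ⟨b, hb⟩ := Ideal.mem_span_range_iff_exists_fun.mp hx
      obtain ⟨h, hh⟩ := Ideal.mem_span_singleton'.mp hz
      exact ⟨b, h, by rw [← hxz, ← hb, ← hh, mul_comm h]; rfl⟩
    choose b hl hbl using ht'
    -- the standard smooth model
    let Δ := Smoothing.jacobianMinor f rows cols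
    let em₁ : MvPolynomial (Fin n) R →ₐ[R] MvPolynomial (Fin n ⊕ Fin c) R := rename Sum.inl
    let y₁ : Fin c → MvPolynomial (Fin n ⊕ Fin c) R := fun i => X (Sum.inr i)
    let Eq : Fin c → MvPolynomial (Fin n ⊕ Fin c) R := fun i => em₁ (f (rows i)) - MvPolynomial.C π * y₁ i
    let q₁ := Ideal.Quotient.mkₐ R (Ideal.span (Set.range Eq))
    let B₁ := MvPolynomial (Fin n ⊕ Fin c) R ⧸ Ideal.span (Set.range Eq)
    obtain ⟨u, hu⟩ : ∃ u : B₁, q₁ (em₁ (t * Δ)) = u := ⟨_, rfl⟩
    let D₁ := Localization.Away u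
    let θ : MvPolynomial (Fin n ⊕ Fin c) R →ₐ[R] D₁ := (IsScalarTower.toAlgHom R B₁ D₁).comp q₁
    have hθu : IsUnit (θ (em₁ (t * Δ))) := by
      change IsUnit (algebraMap B₁ D₁ (q₁ (em₁ (t * Δ))))
      rw [hu]
      exact IsLocalization.Away.algebraMap_isUnit u
    obtain ⟨hθt, hθΔ⟩ : IsUnit (θ (em₁ t)) ∧ IsUnit (θ (em₁ Δ)) := by
      simp only [map_mul, IsUnit.mul_iff] at hθu
      exact hθu
    let tD : D₁ := algebraMap R D₁ π
    have hθC : ∀ r, θ (MvPolynomial.C r) = algebraMap R D₁ r := fun r => θ.commutes r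
    have hemC : ∀ r, em₁ (MvPolynomial.C r) = MvPolynomial.C r := fun r => em₁.commutes r
    have hθf : ∀ i, θ (em₁ (f (rows i))) = tD * θ (y₁ i) := fun i => by
      have h0 : θ (Eq i) = 0 := by
        change algebraMap B₁ D₁ (q₁ (Eq i)) = 0
        rw [show q₁ (Eq i) = 0 from Ideal.Quotient.eq_zero_iff_mem.mpr (Ideal.subset_span ⟨i, rfl⟩), map_zero]
      rw [map_sub, map_mul, sub_eq_zero, hθC] at h0
      exact h0
    let J₀ : Matrix (Fin c) (Fin c) (MvPolynomial (Fin n ⊕ Fin c) R) :=
      Matrix.of fun i k => pderiv (Sum.inl (cols k)) (Eq i)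
    have hJ₀ : J₀.det = em₁ Δ := by
      change _ = em₁.toRingHom _
      simp only [Δ, Smoothing.jacobianMinor, RingHom.map_det]
      refine congrArg Matrix.det (Matrix.ext fun i k => ?_)
      have h1 : pderiv (Sum.inl (cols k) : Fin n ⊕ Fin c) (y₁ i) = 0 := pderiv_X_of_ne Sum.inr_ne_inl
      simp only [J₀, Matrix.of_apply, Eq, map_sub, pderiv_C_mul, h1, mul_zero, sub_zero, em₁,
        pderiv_rename Sum.inl_injective]
      rfl
    haveI : Algebra.IsStandardSmooth R D₁ := by
      let P1 : Algebra.PreSubmersivePresentation R B₁ (Fin n ⊕ Fin c) (Fin c) :=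
        { toPresentation := Algebra.Presentation.naive (v := Eq)
          map := Sum.inl ∘ cols
          map_inj := Sum.inl_injective.comp cols.injective }
      let P2 := (Algebra.PreSubmersivePresentation.localizationAway D₁ u).comp P1
      have hP1 : P1.jacobian = q₁ J₀.det := by
        have hM : P1.jacobiMatrix = J₀.transpose := by
          ext i j : 1
          rw [Algebra.PreSubmersivePresentation.jacobiMatrix_apply]
          rfl
        rw [Algebra.PreSubmersivePresentation.jacobian_eq_jacobiMatrix_det, hM, Matrix.det_transpose]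
        rfl
      have hjac : IsUnit P2.jacobian := by
        simp only [P2, Algebra.PreSubmersivePresentation.comp_jacobian_eq_jacobian_smul_jacobian,
          Algebra.PreSubmersivePresentation.localizationAway_jacobian, Algebra.smul_def, hP1, hJ₀]
        exact hθΔ.mul (IsLocalization.Away.algebraMap_isUnit _)
      exact Algebra.SubmersivePresentation.isStandardSmooth ⟨P2, hjac⟩
    haveI : Algebra.Smooth R D₁ := inferInstance
    -- syzygies of the leading relations vanish in the model
    have hkey : ∀ (a : Fin c → MvPolynomial (Fin n) R) (h : MvPolynomial (Fin n) R),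
        ∑ i, a i * f (rows i) = MvPolynomial.C (π ^ 2) * h →
        ∑ i, θ (em₁ (a i)) * θ (y₁ i) = tD * θ (em₁ h) := by
      intro a h hah
      let I : Ideal D₁ := Ideal.span {tD}
      have hI : Ideal.Quotient.mk I tD = 0 := Ideal.Quotient.eq_zero_iff_mem.mpr (Ideal.subset_span rfl)
      let r : MvPolynomial (Fin n) R →+* D₁ ⧸ I := (Ideal.Quotient.mk I).comp (θ.comp em₁).toRingHom
      have hr : ∀ x, r x = Ideal.Quotient.mk I (θ (em₁ x)) := fun _ => rfl
      have hrf : ∀ i, r (f (rows i)) = 0 := fun i => by rw [hr, hθf, map_mul, hI, zero_mul]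
      have hrπ : r (MvPolynomial.C (π ^ 2)) = 0 := by
        rw [hr, hemC, hθC, map_pow, map_pow, hI, zero_pow two_ne_zero]
      let Jr : Matrix (Fin c) (Fin c) (D₁ ⧸ I) := Matrix.of fun i k => r (pderiv (cols k) (f (rows i)))
      have hvec : Jr.transpose.mulVec (fun i => r (a i)) = 0 := by
        funext k
        have h2 := congrArg (fun x => r (pderiv (cols k) x)) hah
        simp only [map_sum, pderiv_mul, map_add, map_mul, hrf, mul_zero, zero_add, pderiv_C, zero_mul,
          hrπ, map_zero] at h2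
        simp only [Matrix.mulVec, dotProduct, Matrix.transpose_apply, Jr, Matrix.of_apply, Pi.zero_apply]
        refine (Finset.sum_congr rfl fun i _ => mul_comm _ _).trans h2
      have hdet : IsUnit Jr.transpose.det := by
        rw [Matrix.det_transpose]
        have e : Jr = r.mapMatrix (Matrix.of fun i k => pderiv (cols k) (f (rows i))) := rfl
        rw [e, ← RingHom.map_det]
        exact hθΔ.map (Ideal.Quotient.mk I)
      have hz := Groth.Agent.SmoothRetract.eq_zero_of_det _ _ hdet hvec
      have hal : ∀ i, ∃ α : D₁, θ (em₁ (a i)) = tD * α := fun i => by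
        obtain ⟨z, hz'⟩ := Ideal.mem_span_singleton'.mp (Ideal.Quotient.eq_zero_iff_mem.mp (congrFun hz i))
        exact ⟨z, by rw [mul_comm, hz']; rfl⟩
      choose α hα using hal
      have h3 := congrArg (fun x => θ (em₁ x)) hah
      simp only [map_sum, map_mul, hθf, hα, hemC, hθC, map_pow] at h3
      have e1 : ∑ i, tD * α i * (tD * θ (y₁ i)) = tD ^ 2 * ∑ i, α i * θ (y₁ i) := by
        rw [Finset.mul_sum]; exact Finset.sum_congr rfl fun i _ => by ring
      have e2 : ∑ i, tD * α i * θ (y₁ i) = tD * ∑ i, α i * θ (y₁ i) := by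
        rw [Finset.mul_sum]; exact Finset.sum_congr rfl fun i _ => by ring
      rw [e1] at h3
      simp only [hα]
      rw [e2]
      have h4 := mul_eq_zero_of_pow_four π 1 (fun x hx => by rw [one_mul]; exact hR x hx)
        (by rw [map_one]; exact isUnit_one) ((∑ i, α i * θ (y₁ i)) - θ (em₁ h))
        (by linear_combination (tD ^ 2) * h3)
      linear_combination h4
    obtain ⟨ti, hti⟩ := hθt.exists_left_inv
    let Y : Fin m → D₁ := fun l =>
      ti * ((∑ i, θ (em₁ (b l i)) * θ (y₁ i)) + tD * θ (em₁ (hl l)))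
    have hY : ∀ l, θ (em₁ t) * Y l = (∑ i, θ (em₁ (b l i)) * θ (y₁ i)) + tD * θ (em₁ (hl l)) := fun l => by
      simp only [Y]; rw [← mul_assoc, mul_comm (θ _), hti, one_mul]
    let fP : MvPolynomial (Fin n ⊕ Fin m) R →ₐ[R] D₁ := aeval (Sum.elim (fun i => θ (X (Sum.inl i))) Y)
    have hfem : ∀ x, fP (em x) = θ (em₁ x) := fun x => by
      refine AlgHom.congr_fun (φ₁ := fP.comp em) (φ₂ := θ.comp em₁) (MvPolynomial.algHom_ext fun i => by
        simp [fP, em, em₁]) x
    have hfy : ∀ l, fP (yv l) = Y l := fun l => by simp [fP, yv]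
    have hfC : ∀ r, fP (MvPolynomial.C r) = algebraMap R D₁ r := fun r => fP.commutes r
    let fD : D →ₐ[R] D₁ := AlgHom.liftOfSurjective q₀ hq₀s fP (fun z hz => by
      refine RingHom.mem_ker.mpr (RingHom.mem_ker.mp
        ((Ideal.span_le (I := RingHom.ker fP)).mpr ?_ ((SetLike.ext_iff.mp hq₀k z).mp hz)))
      rintro e (⟨l, rfl⟩ | ⟨a, h, hah, rfl⟩)
      · simp only [SetLike.mem_coe, RingHom.mem_ker, rel0, map_sub, map_mul, hfem, hfy, hfC]
        refine hθt.mul_right_eq_zero.mp ?_
        have h1 := congrArg (fun x => θ (em₁ x)) (hbl l)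
        simp only [map_add, map_sum, map_mul, hθf, hemC, hθC, map_pow] at h1
        have e1 : ∑ i, θ (em₁ (b l i)) * (tD * θ (y₁ i)) = tD * ∑ i, θ (em₁ (b l i)) * θ (y₁ i) := by
          rw [Finset.mul_sum]; exact Finset.sum_congr rfl fun i _ => by ring
        rw [e1] at h1
        linear_combination h1 - tD * hY l
      · simp only [SetLike.mem_coe, RingHom.mem_ker, map_sub, map_sum, map_mul, hfem, hfy, hfC]
        refine hθt.mul_right_eq_zero.mp ?_
        have h1 := hkey (fun i => ∑ l, a l * b l i) (t * h - ∑ l, a l * hl l) (by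
          have e : ∀ l, a l * (t * f l) = (∑ i, a l * b l i * f (rows i)) + MvPolynomial.C (π ^ 2) * (a l * hl l) :=
            fun l => by
              rw [hbl, mul_add, Finset.mul_sum, mul_left_comm (a l)]
              simp only [mul_assoc]
          simp only [Finset.sum_mul]
          rw [Finset.sum_comm, mul_sub, Finset.mul_sum, eq_sub_iff_add_eq, ← Finset.sum_add_distrib,
            ← Finset.sum_congr rfl (fun l _ => e l), mul_left_comm, ← hah, Finset.mul_sum]
          exact Finset.sum_congr rfl fun l _ => by ring)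
        simp only [map_sum, map_sub, map_mul, Finset.sum_mul] at h1
        rw [Finset.sum_comm] at h1
        rw [mul_sub]
        simp only [Finset.mul_sum]
        have e2 : ∀ l, θ (em₁ t) * (θ (em₁ (a l)) * Y l) =
            (∑ i, θ (em₁ (a l)) * θ (em₁ (b l i)) * θ (y₁ i)) + tD * (θ (em₁ (a l)) * θ (em₁ (hl l))) :=
          fun l => by
            rw [mul_left_comm, hY, mul_add, Finset.mul_sum, mul_left_comm (θ (em₁ (a l))) tD]
            simp only [mul_assoc]
        simp only [e2, Finset.sum_add_distrib, h1, ← Finset.mul_sum]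
        ring)
    let hD : D := q₀ (em (t * Δ))
    refine Algebra.basicOpen_subset_smoothLocus_iff_smooth.mpr ?_
      (show (⟨Q.comap (Ideal.Quotient.mk (Ideal.span {algebraMap R D π})), inferInstance⟩ : PrimeSpectrum D) ∈
        PrimeSpectrum.basicOpen hD from fun hmem => by
          have h1 : φ (t * Δ) ∈ p := by
            change ψ (φ (t * Δ)) ∈ Q
            rw [AlgHom.liftOfSurjective_apply]
            exact hmem
          rw [map_mul] at h1
          exact (Ideal.IsPrime.mem_or_mem inferInstance h1).elim htp hΔ)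
    have hfDh : fD hD = θ (em₁ (t * Δ)) := (AlgHom.liftOfSurjective_apply ..).trans (hfem _)
    let fwd : Localization.Away hD →ₐ[R] D₁ :=
      IsLocalization.liftAlgHom (M := Submonoid.powers hD) (f := fD) (by
        rintro ⟨_, k, rfl⟩
        rw [map_pow, hfDh]
        exact hθu.pow k)
    let qh : MvPolynomial (Fin n ⊕ Fin m) R →ₐ[R] Localization.Away hD :=
      (IsScalarTower.toAlgHom R D (Localization.Away hD)).comp q₀
    have hqh0 : ∀ z ∈ Set.range rel0 ∪ syz, qh z = 0 := fun z hz => by
      change algebraMap D _ (q₀ z) = 0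
      rw [hq₀span z hz, map_zero]
    let gP : MvPolynomial (Fin n ⊕ Fin c) R →ₐ[R] Localization.Away hD :=
      aeval (Sum.elim (fun i => qh (X (Sum.inl i))) fun i => qh (yv (rows i)))
    have hgem : ∀ x, gP (em₁ x) = qh (em x) := fun x => by
      refine AlgHom.congr_fun (φ₁ := gP.comp em₁) (φ₂ := qh.comp em) (MvPolynomial.algHom_ext fun i => by
        simp [gP, em, em₁]) x
    have hgy : ∀ i, gP (y₁ i) = qh (yv (rows i)) := fun i => by simp [gP, y₁]
    let g₁ : B₁ →ₐ[R] Localization.Away hD := Ideal.Quotient.liftₐ _ gP (fun z hz => by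
      refine (Ideal.span_le (I := RingHom.ker gP)).mpr ?_ hz
      rintro _ ⟨i, rfl⟩
      simp only [SetLike.mem_coe, RingHom.mem_ker, Eq, map_sub, map_mul, hgem, hgy]
      have := hqh0 _ (Or.inl ⟨rows i, rfl⟩)
      rw [map_sub, map_mul] at this
      rw [← this]
      congr 2
      exact (gP.commutes π).trans (qh.commutes π).symm)
    have hqhu : IsUnit (qh (em (t * Δ))) := IsLocalization.Away.algebraMap_isUnit hD
    let bwd : D₁ →ₐ[R] Localization.Away hD :=
      IsLocalization.liftAlgHom (M := Submonoid.powers u) (f := g₁) (by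
        rintro ⟨_, k, rfl⟩
        rw [map_pow, ← hu, show g₁ (q₁ (em₁ (t * Δ))) = gP (em₁ (t * Δ)) from rfl, hgem]
        exact hqhu.pow k)
    have hfwd : ∀ z, fwd (qh z) = fP z := fun z => by
      simp only [fwd, qh, IsLocalization.liftAlgHom_apply, AlgHom.comp_apply,
        IsScalarTower.toAlgHom_apply, IsLocalization.lift_eq]
      exact AlgHom.liftOfSurjective_apply ..
    have hbwd : ∀ z, bwd (θ z) = gP z := fun z => by
      simp only [bwd, θ, IsLocalization.liftAlgHom_apply, AlgHom.comp_apply,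
        IsScalarTower.toAlgHom_apply, IsLocalization.lift_eq]
      rfl
    have e1 : fwd.comp bwd = AlgHom.id R D₁ := by
      refine IsLocalization.algHom_ext (Submonoid.powers u) ?_
      refine Ideal.Quotient.algHom_ext R (MvPolynomial.algHom_ext fun i => ?_)
      change fwd (bwd (θ (X i))) = θ (X i)
      rw [hbwd]
      rcases i with i | i
      · simp only [gP, aeval_X, Sum.elim_inl, hfwd]
        simp [fP]
      · simp only [gP, aeval_X, Sum.elim_inr, hfwd, hfy]
        refine hθt.mul_left_cancel ?_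
        rw [hY]
        have h1 := hkey (fun j => Pi.single (M := fun _ => MvPolynomial (Fin n) R) i t j - b (rows i) j) (hl (rows i)) (by
          simp only [sub_mul, Finset.sum_sub_distrib, Pi.single_apply, ite_mul, zero_mul,
            Finset.sum_ite_eq', Finset.mem_univ, if_true]
          rw [hbl, add_sub_cancel_left])
        simp only [map_sub, sub_mul, Finset.sum_sub_distrib, Pi.single_apply, apply_ite em₁, apply_ite θ,
          map_zero, ite_mul, zero_mul, Finset.sum_ite_eq', Finset.mem_univ, if_true] at h1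
        rw [← h1]
        exact add_sub_cancel _ _
    have e2 : bwd.comp fwd = AlgHom.id R (Localization.Away hD) := by
      refine IsLocalization.algHom_ext (Submonoid.powers hD) ?_
      refine (AlgHom.cancel_right hq₀s).mp (MvPolynomial.algHom_ext fun i => ?_)
      change bwd (fwd (qh (X i))) = qh (X i)
      rw [hfwd]
      rcases i with i | l
      · simp only [fP, aeval_X, Sum.elim_inl, hbwd]
        simp [gP]
      · rw [show fP (X (Sum.inr l)) = Y l from hfy l]
        have hu : IsUnit (bwd (θ (em₁ t))) := hθt.map bwd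
        refine hu.mul_left_cancel ?_
        rw [← map_mul, hY, map_add, map_sum, map_mul]
        simp only [map_mul, hbwd, hgem, hgy, tD, AlgHom.commutes]
        let a : Fin m → MvPolynomial (Fin n) R := fun j =>
          Pi.single (M := fun _ => MvPolynomial (Fin n) R) l t j - ∑ i, if rows i = j then b l i else 0
        have hs : (∑ j, em (a j) * yv j - MvPolynomial.C π * em (hl l)) ∈ syz := by
          refine ⟨a, hl l, ?_, rfl⟩
          simp only [a, sub_mul, Finset.sum_sub_distrib, Pi.single_apply, ite_mul, zero_mul,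
            Finset.sum_mul, Finset.sum_ite_eq', Finset.mem_univ, if_true]
          rw [Finset.sum_comm]
          simp only [Finset.sum_ite_eq, Finset.mem_univ, if_true]
          rw [hbl, add_sub_cancel_left]
        have h1 := hqh0 _ (Or.inr hs)
        simp only [a, map_sub, map_sum, sub_mul, Finset.sum_sub_distrib, Pi.single_apply, apply_ite em,
          map_zero, ite_mul, zero_mul, Finset.sum_mul, Finset.sum_ite_eq', Finset.mem_univ, if_true,
          map_mul, show qh (MvPolynomial.C π) = algebraMap R _ π from qh.commutes π] at h1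
        rw [Finset.sum_comm] at h1
        simp only [apply_ite qh, map_zero, ite_mul, zero_mul, map_mul, Finset.sum_ite_eq, Finset.mem_univ,
          if_true] at h1
        change _ = qh (em t) * qh (yv l)
        linear_combination -h1
    exact Algebra.Smooth.of_equiv (AlgEquiv.ofAlgHom bwd fwd e2 e1)

end Groth.Agent.Desing
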