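import Mathlib
import Groth.Prelude.Def_Smoothing
import Groth.Agent.S6829
import Groth.Agent.S19959
import Groth.Agent.Desing.Relative

/-!
Transfer of the singular ideal along quotients of the base, and descent of resolutions along
`R/(I + (π^8)) → R/I`.
-/

set_option autoImplicit false
set_option linter.style.haveILetI false
set_option linter.unusedSimpArgs false

universe u

namespace Groth.Agent.Desing

open TensorProduct

theorem mem_singularIdeal_of_smooth_away {R B : Type u} [CommRing R] [CommRing B] [Algebra R B]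
    [Algebra.FinitePresentation R B] (x : B) [Algebra.Smooth R (Localization.Away x)] :
    x ∈ Smoothing.singularIdeal R B := by
  rw [Smoothing.singularIdeal, PrimeSpectrum.mem_vanishingIdeal]
  intro q hq
  by_contra hmem
  exact hq (Algebra.basicOpen_subset_smoothLocus_iff_smooth.mpr ‹_› hmem)

theorem singularIdeal_eq_of_bijective (S S' B : Type u) [CommRing S] [CommRing S'] [Algebra S S']
    [CommRing B] [Algebra S B] [Algebra S' B] [IsScalarTower S S' B]
    (h : Function.Bijective (algebraMap S S')) :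
    Smoothing.singularIdeal S B = Smoothing.singularIdeal S' B := by
  let e : S ≃ₐ[S] S' := AlgEquiv.ofBijective (Algebra.ofId S S') h
  haveI : Algebra.Etale S S' := Algebra.Etale.of_equiv e
  have : Algebra.smoothLocus S B = Algebra.smoothLocus S' B := by
    ext q
    change Algebra.FormallySmooth S (Localization.AtPrime q.asIdeal) ↔
      Algebra.FormallySmooth S' (Localization.AtPrime q.asIdeal)
    exact ⟨fun _ => Algebra.FormallySmooth.of_restrictScalars S S' _,
      fun _ => Algebra.FormallySmooth.comp S S' _⟩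
  rw [Smoothing.singularIdeal, Smoothing.singularIdeal, this]

theorem mk_mem_singularIdeal_quotient {R A : Type u} [CommRing R] [CommRing A] [Algebra R A]
    [Algebra.FinitePresentation R A] (K : Ideal R)
    [Algebra.FinitePresentation (R ⧸ K) (A ⧸ K.map (algebraMap R A))] {x : A}
    (hx : x ∈ Smoothing.singularIdeal R A) :
    Ideal.Quotient.mk (K.map (algebraMap R A)) x ∈
      Smoothing.singularIdeal (R ⧸ K) (A ⧸ K.map (algebraMap R A)) := by
  haveI : Algebra.Smooth R (Localization.Away x) :=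
    Algebra.basicOpen_subset_smoothLocus_iff_smooth.mp (basicOpen_subset_of_mem_singularIdeal hx)
  let L := Localization.Away (Ideal.Quotient.mk (K.map (algebraMap R A)) x)
  haveI : Algebra.FormallySmooth (R ⧸ K) L := by
    refine Algebra.FormallySmooth.of_comp_surjective ?_
    intro T _ _ J hJ v
    letI : Algebra R T := ((algebraMap (R ⧸ K) T).comp (Ideal.Quotient.mk K)).toAlgebra
    haveI : IsScalarTower R (R ⧸ K) T := IsScalarTower.of_algebraMap_eq fun _ => rfl
    let ι : A →ₐ[R] L := (IsScalarTower.toAlgHom R (A ⧸ K.map (algebraMap R A)) L).comp (Ideal.Quotient.mkₐ R _)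
    let i : Localization.Away x →ₐ[R] L :=
      IsLocalization.liftAlgHom (M := Submonoid.powers x) (f := ι) (by
        rintro ⟨_, k, rfl⟩
        rw [map_pow]
        exact (IsLocalization.Away.algebraMap_isUnit (Ideal.Quotient.mk (K.map (algebraMap R A)) x)).pow k)
    obtain ⟨w, hw⟩ := Algebra.FormallySmooth.comp_surjective R (Localization.Away x) J hJ
      ((v.restrictScalars R).comp i)
    let wA : A →ₐ[R] T := w.comp (IsScalarTower.toAlgHom R A _)
    have hwA : ∀ a ∈ K.map (algebraMap R A), wA a = 0 := by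
      intro a ha
      refine (Ideal.map_le_iff_le_comap.mpr fun k hk => ?_ : K.map (algebraMap R A) ≤ RingHom.ker wA) ha
      rw [Ideal.mem_comap, RingHom.mem_ker, AlgHom.commutes]
      change algebraMap (R ⧸ K) T (Ideal.Quotient.mk K k) = 0
      rw [Ideal.Quotient.eq_zero_iff_mem.mpr hk, map_zero]
    let w' : (A ⧸ K.map (algebraMap R A)) →ₐ[R ⧸ K] T :=
      { Ideal.Quotient.lift _ wA.toRingHom hwA with
        commutes' := fun r => by
          obtain ⟨r, rfl⟩ := Ideal.Quotient.mk_surjective r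
          exact wA.commutes r }
    have hu : IsUnit (w' (Ideal.Quotient.mk _ x)) :=
      (IsLocalization.Away.algebraMap_isUnit x).map w
    let wL : L →ₐ[R ⧸ K] T :=
      IsLocalization.liftAlgHom (M := Submonoid.powers (Ideal.Quotient.mk (K.map (algebraMap R A)) x)) (f := w') (by
        rintro ⟨_, k, rfl⟩
        rw [map_pow]
        exact hu.pow k)
    refine ⟨wL, IsLocalization.algHom_ext (Submonoid.powers (Ideal.Quotient.mk (K.map (algebraMap R A)) x)) ?_⟩
    apply AlgHom.ext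
    intro a
    obtain ⟨a, rfl⟩ := Ideal.Quotient.mk_surjective a
    have h1 : wL (algebraMap _ L (Ideal.Quotient.mk (K.map (algebraMap R A)) a)) = wA a := by
      simp only [wL, IsLocalization.liftAlgHom_apply, IsLocalization.lift_eq]
      rfl
    have h2 : i (algebraMap A _ a) = algebraMap _ L (Ideal.Quotient.mk (K.map (algebraMap R A)) a) := by
      simp only [i, IsLocalization.liftAlgHom_apply, IsLocalization.lift_eq]
      rfl
    change Ideal.Quotient.mk J (wL (algebraMap _ L (Ideal.Quotient.mk _ a))) = v (algebraMap _ L (Ideal.Quotient.mk _ a))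
    rw [h1, ← h2]
    exact AlgHom.congr_fun hw (algebraMap A _ a)
  haveI : Algebra.FinitePresentation (A ⧸ K.map (algebraMap R A)) L :=
    IsLocalization.Away.finitePresentation (Ideal.Quotient.mk (K.map (algebraMap R A)) x)
  haveI : Algebra.Smooth (R ⧸ K) L :=
    ⟨inferInstance, Algebra.FinitePresentation.trans _ (A ⧸ K.map (algebraMap R A)) _⟩
  exact mem_singularIdeal_of_smooth_away _

section

variable {R A Λ : Type u} [CommRing R] [CommRing A] [Algebra R A] [CommRing Λ] [Algebra R Λ]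

/-- A resolution of `A → Λ → Λ/IΛ` by a finitely presented `R/I`-algebra. -/
def ResMod (φ : A →ₐ[R] Λ) (𝔮 : Ideal Λ) (I : Ideal R) : Prop :=
  ∃ (B : Type u) (_ : CommRing B) (_ : Algebra R B) (_ : Algebra (R ⧸ I) B) (_ : IsScalarTower R (R ⧸ I) B),
    Algebra.FinitePresentation (R ⧸ I) B ∧
    ∃ (g : A →ₐ[R] B) (h : B →ₐ[R] Λ ⧸ I.map (algebraMap R Λ)),
      (∀ a, h (g a) = Ideal.Quotient.mk _ (φ a)) ∧
      Smoothing.singRad R φ ≤
        (((Smoothing.singularIdeal (R ⧸ I) B).map h).radical).comap (Ideal.Quotient.mk (I.map (algebraMap R Λ))) ∧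
      ¬ (((Smoothing.singularIdeal (R ⧸ I) B).map h).radical).comap
          (Ideal.Quotient.mk (I.map (algebraMap R Λ))) ≤ 𝔮

theorem ResMod.descend [IsNoetherianRing R] [Algebra.FinitePresentation R A] {φ : A →ₐ[R] Λ} {𝔮 : Ideal Λ}
    (I J : Ideal R) (π : R) (hJ : I ⊔ Ideal.span {π ^ 8} = J)
    (hR : ∀ x : R, π ^ 2 * x ∈ I → π * x ∈ I)
    (hΛ : ∀ x : Λ, algebraMap R Λ π ^ 2 * x ∈ I.map (algebraMap R Λ) →
      algebraMap R Λ π * x ∈ I.map (algebraMap R Λ))
    (hstd : Smoothing.IsStrictlyStandard R A (algebraMap R A π)) (h : ResMod φ 𝔮 J) :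
    ResMod φ 𝔮 I := by
  subst hJ
  obtain ⟨B, _, _, _, _, hBfp, g, hB, hcomp, hle, hnle⟩ := h
  haveI := hBfp
  let p : R ⧸ I := Ideal.Quotient.mk I π
  -- the finer quotient of the base
  have hspan : Ideal.span {p ^ 8} = (Ideal.span {π ^ 8}).map (Ideal.Quotient.mkₐ R I) := by
    rw [Ideal.map_span, Set.image_singleton]
    rfl
  let eR : ((R ⧸ I) ⧸ Ideal.span {p ^ 8}) ≃ₐ[R] R ⧸ I ⊔ Ideal.span {π ^ 8} :=
    (Ideal.quotientEquivAlgOfEq R hspan).trans (DoubleQuot.quotQuotEquivQuotSupₐ R I _)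
  letI : Algebra ((R ⧸ I) ⧸ Ideal.span {p ^ 8}) B :=
    ((algebraMap (R ⧸ I ⊔ Ideal.span {π ^ 8}) B).comp eR.toAlgHom.toRingHom).toAlgebra
  letI : Algebra (R ⧸ I) B :=
    ((algebraMap ((R ⧸ I) ⧸ Ideal.span {p ^ 8}) B).comp (Ideal.Quotient.mk _)).toAlgebra
  haveI : IsScalarTower (R ⧸ I) ((R ⧸ I) ⧸ Ideal.span {p ^ 8}) B := ⟨fun x y z => by
    obtain ⟨y, rfl⟩ := Ideal.Quotient.mk_surjective y
    rw [Algebra.smul_def, Algebra.smul_def, Algebra.smul_def]
    change algebraMap _ B (Ideal.Quotient.mk _ (x * y)) * z =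
      algebraMap ((R ⧸ I) ⧸ Ideal.span {p ^ 8}) B (Ideal.Quotient.mk _ x) * (algebraMap _ B (Ideal.Quotient.mk _ y) * z)
    rw [map_mul, map_mul, mul_assoc]⟩
  haveI : IsScalarTower R (R ⧸ I) B := IsScalarTower.of_algebraMap_eq fun r => by
    change algebraMap R B r = algebraMap (R ⧸ I ⊔ Ideal.span {π ^ 8}) B (eR (algebraMap R _ r))
    rw [AlgEquiv.commutes, ← IsScalarTower.algebraMap_apply]
  letI : Algebra ((R ⧸ I) ⧸ Ideal.span {p ^ 8}) (R ⧸ I ⊔ Ideal.span {π ^ 8}) :=
    eR.toAlgHom.toRingHom.toAlgebra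
  haveI : IsScalarTower ((R ⧸ I) ⧸ Ideal.span {p ^ 8}) (R ⧸ I ⊔ Ideal.span {π ^ 8}) B :=
    IsScalarTower.of_algebraMap_eq fun _ => rfl
  have hbij : Function.Bijective (algebraMap ((R ⧸ I) ⧸ Ideal.span {p ^ 8}) (R ⧸ I ⊔ Ideal.span {π ^ 8})) :=
    eR.bijective
  haveI : Algebra.FinitePresentation ((R ⧸ I) ⧸ Ideal.span {p ^ 8}) (R ⧸ I ⊔ Ideal.span {π ^ 8}) :=
    Algebra.FinitePresentation.equiv (AlgEquiv.ofBijective (Algebra.ofId _ _) hbij)
  haveI : Algebra.FinitePresentation ((R ⧸ I) ⧸ Ideal.span {p ^ 8}) B :=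
    Algebra.FinitePresentation.trans _ (R ⧸ I ⊔ Ideal.span {π ^ 8}) B
  -- the finer quotient of the target
  let L := Λ ⧸ I.map (algebraMap R Λ)
  have hspanΛ : Ideal.span {algebraMap (R ⧸ I) L (p ^ 8)} =
      ((Ideal.span {π ^ 8}).map (algebraMap R Λ)).map (Ideal.Quotient.mkₐ R (I.map (algebraMap R Λ))) := by
    rw [Ideal.map_span, Set.image_singleton, Ideal.map_span, Set.image_singleton]
    rfl
  let eΛ : (L ⧸ Ideal.span {algebraMap (R ⧸ I) L (p ^ 8)}) ≃ₐ[R] Λ ⧸ (I ⊔ Ideal.span {π ^ 8}).map (algebraMap R Λ) :=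
    ((Ideal.quotientEquivAlgOfEq R hspanΛ).trans (DoubleQuot.quotQuotEquivQuotSupₐ R _ _)).trans
      (Ideal.quotientEquivAlgOfEq R (Ideal.map_sup _ _ _).symm)
  have heΛ : ∀ x : Λ, eΛ (Ideal.Quotient.mk _ (Ideal.Quotient.mk (I.map (algebraMap R Λ)) x)) = Ideal.Quotient.mk _ x :=
    fun _ => rfl
  let hBR : B →ₐ[R] L ⧸ Ideal.span {algebraMap (R ⧸ I) L (p ^ 8)} := eΛ.symm.toAlgHom.comp hB
  let g8 : B →ₐ[R ⧸ I] L ⧸ Ideal.span {algebraMap (R ⧸ I) L (p ^ 8)} :=
    { hBR.toRingHom with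
      commutes' := fun r => by
        obtain ⟨r, rfl⟩ := Ideal.Quotient.mk_surjective r
        change hBR (algebraMap (R ⧸ I) B (algebraMap R (R ⧸ I) r)) = algebraMap (R ⧸ I) _ (algebraMap R (R ⧸ I) r)
        rw [← IsScalarTower.algebraMap_apply, ← IsScalarTower.algebraMap_apply, AlgHom.commutes] }
  let φI : (R ⧸ I) ⊗[R] A →ₐ[R ⧸ I] L :=
    Algebra.TensorProduct.lift (Algebra.ofId _ L) ((Ideal.Quotient.mkₐ R _).comp φ) fun _ _ => Commute.all _ _
  let γ : (R ⧸ I) ⊗[R] A →ₐ[R ⧸ I] B :=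
    Algebra.TensorProduct.lift (Algebra.ofId _ B) g fun _ _ => Commute.all _ _
  have hfac : ∀ a, g8 (γ a) = Ideal.Quotient.mk (Ideal.span {algebraMap (R ⧸ I) L (p ^ 8)}) (φI a) := by
    intro a
    refine AlgHom.congr_fun (φ₁ := g8.comp γ) (φ₂ := (Ideal.Quotient.mkₐ (R ⧸ I) _).comp φI)
      (Algebra.TensorProduct.ext (by ext) (AlgHom.ext fun a => ?_)) a
    change eΛ.symm (hB (γ (1 ⊗ₜ a))) = Ideal.Quotient.mk _ (φI (1 ⊗ₜ a))
    simp only [γ, φI, Algebra.TensorProduct.lift_tmul, map_one, one_mul]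
    rw [hcomp, AlgEquiv.symm_apply_eq]
    exact (heΛ _).symm
  have hpR : ∀ r : R ⧸ I, p ^ 2 * r = 0 → p * r = 0 := fun r => by
    obtain ⟨r, rfl⟩ := Ideal.Quotient.mk_surjective r
    simp only [p, ← map_pow, ← map_mul, Ideal.Quotient.eq_zero_iff_mem]
    exact hR r
  have hpΛ : ∀ x : L, p ^ 2 • x = 0 → p • x = 0 := fun x => by
    obtain ⟨x, rfl⟩ := Ideal.Quotient.mk_surjective x
    have hp : algebraMap (R ⧸ I) L p = Ideal.Quotient.mk _ (algebraMap R Λ π) := rfl
    simp only [Algebra.smul_def, map_pow, hp]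
    simp only [← map_pow, ← map_mul]
    rw [Ideal.Quotient.eq_zero_iff_mem, Ideal.Quotient.eq_zero_iff_mem]
    simpa only [map_pow] using hΛ x
  have hpstd : Smoothing.IsStrictlyStandard (R ⧸ I) ((R ⧸ I) ⊗[R] A) (algebraMap (R ⧸ I) ((R ⧸ I) ⊗[R] A) p) := by
    have h := (Groth.Agent.S6829.result (R' := R ⧸ I) (algebraMap R A π)).2 hstd
    have e : algebraMap (R ⧸ I) ((R ⧸ I) ⊗[R] A) p = (1 : R ⧸ I) ⊗ₜ[R] algebraMap R A π := by
      rw [show p = algebraMap R (R ⧸ I) π from rfl, ← IsScalarTower.algebraMap_apply,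
        ← Algebra.TensorProduct.includeRight_apply, AlgHom.commutes]
    rw [e]
    exact h
  obtain ⟨B', _, _, hB'fp, α, β, hβα, hsm, hsub⟩ :=
    Groth.Agent.S19959.result p hpR hpΛ φI hpstd γ g8 hfac
  haveI := hB'fp
  letI : Algebra R B' := ((algebraMap (R ⧸ I) B').comp (Ideal.Quotient.mk I)).toAlgebra
  haveI : IsScalarTower R (R ⧸ I) B' := IsScalarTower.of_algebraMap_eq fun _ => rfl
  have hkey : (((Smoothing.singularIdeal (R ⧸ I ⊔ Ideal.span {π ^ 8}) B).map hB).radical).comap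
        (Ideal.Quotient.mk ((I ⊔ Ideal.span {π ^ 8}).map (algebraMap R Λ))) ≤
      (((Smoothing.singularIdeal (R ⧸ I) B').map (β.restrictScalars R)).radical).comap
        (Ideal.Quotient.mk (I.map (algebraMap R Λ))) := by
    intro x hx
    rw [Ideal.mem_comap] at hx ⊢
    let S := ((Smoothing.singularIdeal (R ⧸ I) B').map β).radical
    change Ideal.Quotient.mk _ x ∈ S
    obtain ⟨k, hk⟩ := hx
    refine (Ideal.radical_isRadical _) ⟨k, ?_⟩
    rw [← heΛ x, ← map_pow] at hk
    have h1 : Ideal.Quotient.mk (Ideal.span {algebraMap (R ⧸ I) L (p ^ 8)}) (Ideal.Quotient.mk (I.map (algebraMap R Λ)) x) ^ k ∈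
        (Smoothing.singularIdeal ((R ⧸ I) ⧸ Ideal.span {p ^ 8}) B).map g8 := by
      rw [singularIdeal_eq_of_bijective _ (R ⧸ I ⊔ Ideal.span {π ^ 8}) B hbij]
      have hm : ((Smoothing.singularIdeal (R ⧸ I ⊔ Ideal.span {π ^ 8}) B).map hB).map eΛ.symm.toAlgHom.toRingHom =
          (Smoothing.singularIdeal (R ⧸ I ⊔ Ideal.span {π ^ 8}) B).map g8 := Ideal.map_map _ _
      rw [← hm]
      have := Ideal.mem_map_of_mem eΛ.symm.toAlgHom.toRingHom hk
      simpa using this
    have h2 := hsub h1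
    rw [← map_pow, Ideal.mem_map_iff_of_surjective _ Ideal.Quotient.mk_surjective] at h2
    obtain ⟨y, hy, hxy⟩ := h2
    obtain ⟨z, hz⟩ := Ideal.mem_span_singleton'.mp (Ideal.Quotient.eq.mp hxy)
    have hpB : algebraMap (R ⧸ I) B' p ∈ Smoothing.singularIdeal (R ⧸ I) B' := by
      rw [Smoothing.singularIdeal, PrimeSpectrum.mem_vanishingIdeal]
      intro q hq
      by_contra hmem
      exact hq (hsm q.asIdeal hmem)
    have hp8 : z * algebraMap (R ⧸ I) L (p ^ 8) ∈ S := by
      rw [map_pow, ← β.commutes p]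
      exact Ideal.mul_mem_left _ _ (Ideal.pow_mem_of_mem _
        (Ideal.le_radical (Ideal.mem_map_of_mem _ hpB)) 8 (by norm_num))
    have := sub_mem hy (hz ▸ hp8)
    rwa [sub_sub_cancel] at this
  refine ⟨B', inferInstance, inferInstance, inferInstance, inferInstance, hB'fp,
    (α.restrictScalars R).comp Algebra.TensorProduct.includeRight, β.restrictScalars R, fun a => ?_,
    hle.trans hkey, fun h => hnle (hkey.trans h)⟩
  change β (α ((1 : R ⧸ I) ⊗ₜ a)) = _
  rw [← AlgHom.comp_apply, hβα, Algebra.TensorProduct.lift_tmul, map_one, one_mul]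
  rfl

end

end Groth.Agent.Desing
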