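import Mathlib
import Groth.Prelude.Def_Smoothing
import Groth.Agent.Desing.Resolve

/-!
Spreading out a smooth factorisation of a localised problem, and gluing it with the original
algebra in the zero-dimensional case.
-/

set_option autoImplicit false
set_option linter.style.haveILetI false
set_option linter.unusedSimpArgs false

universe u

namespace Groth.Agent.Desing

theorem exists_mem_singularIdeal_notMem {R C : Type u} [CommRing R] [CommRing C] [Algebra R C]
    [Algebra.FinitePresentation R C] (Q : Ideal C) [Q.IsPrime] (h : Algebra.IsSmoothAt R Q) :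
    ∃ f ∈ Smoothing.singularIdeal R C, f ∉ Q := by
  obtain ⟨_, ⟨f, rfl⟩, hf, hsub⟩ := PrimeSpectrum.isTopologicalBasis_basic_opens.exists_subset_of_mem_open
    (show (⟨Q, inferInstance⟩ : PrimeSpectrum C) ∈ Algebra.smoothLocus R C from h) Algebra.isOpen_smoothLocus
  refine ⟨f, ?_, hf⟩
  rw [Smoothing.singularIdeal, PrimeSpectrum.mem_vanishingIdeal]
  intro q hq
  by_contra hmem
  exact hq (hsub hmem)

open MvPolynomial in
theorem exists_spread {R A Λ Rₚ Λq B' : Type u} [CommRing R] [IsNoetherianRing R] [CommRing A] [Algebra R A]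
    [Algebra.FinitePresentation R A] [CommRing Λ] [Algebra R Λ] (φ : A →ₐ[R] Λ) (𝔮 : Ideal Λ) [𝔮.IsPrime]
    [CommRing Rₚ] [Algebra R Rₚ] [IsLocalization.AtPrime Rₚ (𝔮.comap (algebraMap R Λ))]
    [CommRing Λq] [Algebra Λ Λq] [IsLocalization.AtPrime Λq 𝔮] [Algebra R Λq] [IsScalarTower R Λ Λq]
    [CommRing B'] [Algebra Rₚ B'] [Algebra R B'] [IsScalarTower R Rₚ B'] [Algebra.Smooth Rₚ B']
    (g : A →ₐ[R] B') (h : B' →ₐ[R] Λq) (hgh : ∀ a, h (g a) = algebraMap Λ Λq (φ a)) :
    ∃ (C : Type u) (_ : CommRing C) (_ : Algebra R C), Algebra.FinitePresentation R C ∧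
      ∃ (α : A →ₐ[R] C) (β : C →ₐ[R] Λ), β.comp α = φ ∧
        ¬ (Smoothing.singularIdeal R C).map β ≤ 𝔮 := by
  classical
  let p := 𝔮.comap (algebraMap R Λ)
  haveI : Algebra.FiniteType Rₚ B' := inferInstance
  obtain ⟨n, ψ, hψ⟩ := Algebra.FiniteType.iff_quotient_mvPolynomial''.mp (inferInstance : Algebra.FiniteType Rₚ B')
  obtain ⟨k, π, hπ, hπker⟩ := (inferInstance : Algebra.FinitePresentation R A).out
  obtain ⟨L, gr, hgr⟩ := Submodule.fg_iff_exists_fin_generating_family.mp hπker
  have hgr0 : ∀ l, π (gr l) = 0 := fun l => by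
    have : gr l ∈ RingHom.ker π.toRingHom := hgr ▸ Ideal.subset_span ⟨l, rfl⟩
    exact this
  -- a common denominator
  obtain ⟨s, hs⟩ := IsLocalization.exist_integer_multiples_of_finite 𝔮.primeCompl (fun i => h (ψ (X i)))
  choose lam hlam using hs
  have hsu : IsUnit (algebraMap Λ Λq s) := IsLocalization.map_units Λq s
  let T := Localization.Away (Polynomial.X : Polynomial B')
  let ι : B' →ₐ[R] T := IsScalarTower.toAlgHom R B' T
  let Y : T := algebraMap (Polynomial B') T Polynomial.X
  have hY : IsUnit Y := IsLocalization.Away.algebraMap_isUnit _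
  let σ := Fin n ⊕ Unit ⊕ Fin k
  let ε : MvPolynomial σ R →ₐ[R] T :=
    aeval (Sum.elim (fun i => Y * ι (ψ (X i))) (Sum.elim (fun _ => Y) fun j => ι (g (π (X j)))))
  let δ : MvPolynomial σ R →ₐ[R] Λ :=
    aeval (Sum.elim lam (Sum.elim (fun _ => (s : Λ)) fun j => φ (π (X j))))
  let e₀ : Polynomial B' →ₐ[R] Λq :=
    { Polynomial.eval₂RingHom h.toRingHom (algebraMap Λ Λq s) with
      commutes' := fun r => by
        change Polynomial.eval₂ h.toRingHom _ (algebraMap R (Polynomial B') r) = _
        rw [Polynomial.algebraMap_apply, Polynomial.eval₂_C]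
        exact h.commutes r }
  have he₀C : ∀ b, e₀ (Polynomial.C b) = h b := fun b => Polynomial.eval₂_C _ _
  have he₀X : e₀ Polynomial.X = algebraMap Λ Λq s := Polynomial.eval₂_X _ _
  let hT : T →ₐ[R] Λq := IsLocalization.liftAlgHom (M := Submonoid.powers (Polynomial.X : Polynomial B')) (f := e₀) (by
    rintro ⟨_, i, rfl⟩
    rw [map_pow, he₀X]
    exact hsu.pow i)
  have hTe : ∀ q, hT (algebraMap (Polynomial B') T q) = e₀ q := fun q => by
    simp only [hT, IsLocalization.liftAlgHom_apply, IsLocalization.lift_eq]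
    rfl
  have hTι : ∀ b, hT (ι b) = h b := fun b => by
    change hT (algebraMap B' T b) = _
    rw [IsScalarTower.algebraMap_apply B' (Polynomial B') T, hTe]
    exact he₀C b
  have hcomm : ∀ F, hT (ε F) = algebraMap Λ Λq (δ F) := fun F => by
    refine AlgHom.congr_fun (φ₁ := hT.comp ε) (φ₂ := (IsScalarTower.toAlgHom R Λ Λq).comp δ)
      (MvPolynomial.algHom_ext fun i => ?_) F
    rcases i with i | i | j
    · simp only [AlgHom.comp_apply, ε, δ, aeval_X, Sum.elim_inl, map_mul, IsScalarTower.toAlgHom_apply, hlam, hTι]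
      rw [show hT Y = algebraMap Λ Λq s from (hTe _).trans he₀X]
      exact (Algebra.smul_def (s : Λ) (h (ψ (X i)))).symm
    · simp only [AlgHom.comp_apply, ε, δ, aeval_X, Sum.elim_inr, Sum.elim_inl, IsScalarTower.toAlgHom_apply]
      exact (hTe _).trans he₀X
    · simp only [AlgHom.comp_apply, ε, δ, aeval_X, Sum.elim_inr, IsScalarTower.toAlgHom_apply, hTι, hgh]
  -- the kernel
  obtain ⟨N, F, hF⟩ := Submodule.fg_iff_exists_fin_generating_family.mp
    (IsNoetherian.noetherian (RingHom.ker ε.toRingHom))
  have hF0 : ∀ l, ε (F l) = 0 := fun l => by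
    have : F l ∈ RingHom.ker ε.toRingHom := hF ▸ Submodule.subset_span ⟨l, rfl⟩
    exact this
  have hu : ∀ l, ∃ u : 𝔮.primeCompl, (u : Λ) * δ (F l) = 0 := fun l =>
    (IsLocalization.map_eq_zero_iff 𝔮.primeCompl Λq _).mp (by rw [← hcomm, hF0, map_zero])
  choose uf huf using hu
  let u : Λ := ∏ l, (uf l : Λ)
  have hu : u ∉ 𝔮 := Submonoid.prod_mem 𝔮.primeCompl fun l _ => (uf l).2
  have huF : ∀ l, u * δ (F l) = 0 := fun l => by
    simp only [u, ← Finset.mul_prod_erase _ _ (Finset.mem_univ l)]
    linear_combination (∏ j ∈ Finset.univ.erase l, (uf j : Λ)) * huf l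
  let z : MvPolynomial (Fin k) R →ₐ[R] MvPolynomial σ R := rename fun j => Sum.inr (Sum.inr j)
  have hεz : ∀ v, ε (z v) = ι (g (π v)) := fun v => by
    refine AlgHom.congr_fun (φ₁ := ε.comp z) (φ₂ := (ι.comp g).comp π)
      (MvPolynomial.algHom_ext fun j => by simp [ε, z]) v
  have hδz : ∀ v, δ (z v) = φ (π v) := fun v => by
    refine AlgHom.congr_fun (φ₁ := δ.comp z) (φ₂ := φ.comp π)
      (MvPolynomial.algHom_ext fun j => by simp [δ, z]) v
  -- the algebra
  let rels : Set (Polynomial (MvPolynomial σ R)) :=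
    Set.range (fun l => Polynomial.X * Polynomial.C (F l)) ∪ Set.range fun l => Polynomial.C (z (gr l))
  obtain ⟨C, _, _, q, hqs, hqk⟩ : ∃ (C : Type u) (_ : CommRing C) (_ : Algebra R C)
      (q : Polynomial (MvPolynomial σ R) →ₐ[R] C),
      Function.Surjective q ∧ RingHom.ker q.toRingHom = Ideal.span rels :=
    ⟨Polynomial (MvPolynomial σ R) ⧸ Ideal.span rels, inferInstance, inferInstance, Ideal.Quotient.mkₐ R (Ideal.span rels),
      Ideal.Quotient.mkₐ_surjective R (Ideal.span rels), Ideal.Quotient.mkₐ_ker R (Ideal.span rels)⟩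
  haveI : Algebra.FiniteType R (Polynomial (MvPolynomial σ R)) :=
    Algebra.FiniteType.trans (inferInstance : Algebra.FiniteType R (MvPolynomial σ R))
      (inferInstance : Algebra.FiniteType (MvPolynomial σ R) (Polynomial (MvPolynomial σ R)))
  haveI : Algebra.FiniteType R C := Algebra.FiniteType.of_surjective q hqs
  haveI hCfp : Algebra.FinitePresentation R C := Algebra.FinitePresentation.of_finiteType.mp inferInstance
  have hq0 : ∀ v ∈ rels, q v = 0 := fun v hv =>
    RingHom.mem_ker.mp ((SetLike.ext_iff.mp hqk v).mpr (Ideal.subset_span hv))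
  let α : A →ₐ[R] C := AlgHom.liftOfSurjective π hπ
    ((q.comp (IsScalarTower.toAlgHom R (MvPolynomial σ R) (Polynomial (MvPolynomial σ R)))).comp z)
    (fun v hv => by
      refine RingHom.mem_ker.mpr (RingHom.mem_ker.mp ((Ideal.span_le (I := RingHom.ker
        ((q.comp (IsScalarTower.toAlgHom R (MvPolynomial σ R) (Polynomial (MvPolynomial σ R)))).comp z))).mpr ?_
          ((SetLike.ext_iff.mp hgr v).mpr hv)))
      rintro _ ⟨l, rfl⟩
      exact hq0 _ (Or.inr ⟨l, rfl⟩))
  let δ' : Polynomial (MvPolynomial σ R) →ₐ[R] Λ :=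
    { Polynomial.eval₂RingHom δ.toRingHom u with
      commutes' := fun r => by
        change Polynomial.eval₂ δ.toRingHom _ (algebraMap R (Polynomial (MvPolynomial σ R)) r) = _
        rw [Polynomial.algebraMap_apply, Polynomial.eval₂_C]
        exact δ.commutes r }
  have hδ'C : ∀ v, δ' (Polynomial.C v) = δ v := fun v => Polynomial.eval₂_C _ _
  have hδ'X : δ' Polynomial.X = u := Polynomial.eval₂_X _ _
  let β : C →ₐ[R] Λ := AlgHom.liftOfSurjective q hqs δ' (fun v hv => by
    refine RingHom.mem_ker.mpr (RingHom.mem_ker.mp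
      ((Ideal.span_le (I := RingHom.ker δ')).mpr ?_ ((SetLike.ext_iff.mp hqk v).mp hv)))
    rintro _ (⟨l, rfl⟩ | ⟨l, rfl⟩)
    · simp only [SetLike.mem_coe, RingHom.mem_ker, map_mul, hδ'C, hδ'X, huF]
    · simp only [SetLike.mem_coe, RingHom.mem_ker, hδ'C, hδz, hgr0, map_zero])
  refine ⟨C, inferInstance, inferInstance, hCfp, α, β, AlgHom.ext fun a => ?_, ?_⟩
  · obtain ⟨v, rfl⟩ := hπ a
    change β (α (π v)) = _
    rw [AlgHom.liftOfSurjective_apply]
    change β (q (Polynomial.C (z v))) = _
    rw [AlgHom.liftOfSurjective_apply, hδ'C, hδz]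
  -- the localisation of `C` is the smooth algebra `T[U, 1/U]`
  let T' := Localization.Away (Polynomial.X : Polynomial T)
  let U' : T' := algebraMap (Polynomial T) T' Polynomial.X
  have hU' : IsUnit U' := IsLocalization.Away.algebraMap_isUnit _
  let ε' : Polynomial (MvPolynomial σ R) →ₐ[R] T' :=
    (IsScalarTower.toAlgHom R (Polynomial T) T').comp (Polynomial.mapAlgHom ε)
  have hε'C : ∀ v, ε' (Polynomial.C v) = algebraMap (Polynomial T) T' (Polynomial.C (ε v)) := fun v =>
    congrArg (algebraMap (Polynomial T) T') (Polynomial.map_C _)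
  have hε'X : ε' Polynomial.X = U' := congrArg (algebraMap (Polynomial T) T') (Polynomial.map_X _)
  let Φ : C →ₐ[R] T' := AlgHom.liftOfSurjective q hqs ε' (fun v hv => by
    refine RingHom.mem_ker.mpr (RingHom.mem_ker.mp
      ((Ideal.span_le (I := RingHom.ker ε')).mpr ?_ ((SetLike.ext_iff.mp hqk v).mp hv)))
    rintro _ (⟨l, rfl⟩ | ⟨l, rfl⟩)
    · simp only [SetLike.mem_coe, RingHom.mem_ker, map_mul, hε'C, hF0, map_zero, mul_zero]
    · simp only [SetLike.mem_coe, RingHom.mem_ker, hε'C, hεz, hgr0, map_zero])
  have hΦq : ∀ v, Φ (q v) = ε' v := fun v => AlgHom.liftOfSurjective_apply ..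
  have hβq : ∀ v, β (q v) = δ' v := fun v => AlgHom.liftOfSurjective_apply ..
  let yv : Polynomial (MvPolynomial σ R) := Polynomial.C (X (Sum.inr (Sum.inl ())))
  let M : Submonoid C := p.primeCompl.map (algebraMap R C) ⊔ Submonoid.powers (q (yv * Polynomial.X))
  let Q : Ideal C := 𝔮.comap β
  have hMQ : M ≤ Q.primeCompl := by
    refine sup_le ?_ ?_
    · rintro _ ⟨r, hr, rfl⟩ hmem
      refine hr ?_
      change algebraMap R Λ r ∈ 𝔮
      rw [← β.commutes]
      exact hmem
    · refine Submonoid.powers_le.mpr fun hmem => ?_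
      change β (q (yv * Polynomial.X)) ∈ 𝔮 at hmem
      rw [hβq, map_mul, hδ'C, hδ'X, aeval_X] at hmem
      exact (Ideal.IsPrime.mem_or_mem ‹_› hmem).elim s.2 hu
  have hRp : ∀ r ∈ p.primeCompl, IsUnit (algebraMap R T' r) := fun r hr => by
    rw [IsScalarTower.algebraMap_apply R Rₚ T']
    exact (IsLocalization.map_units Rₚ (⟨r, hr⟩ : p.primeCompl)).map _
  have hΦyX : Φ (q (yv * Polynomial.X)) = algebraMap (Polynomial T) T' (Polynomial.C Y) * U' := by
    rw [hΦq, map_mul, hε'C, hε'X, aeval_X]
    rfl
  have hΦM : M ≤ (IsUnit.submonoid T').comap Φ := by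
    refine sup_le ?_ ?_
    · rintro _ ⟨r, hr, rfl⟩
      change IsUnit (Φ (algebraMap R C r))
      rw [AlgHom.commutes]
      exact hRp r hr
    · refine Submonoid.powers_le.mpr ?_
      change IsUnit (Φ (q (yv * Polynomial.X)))
      rw [hΦyX]
      exact ((hY.map Polynomial.C).map (algebraMap (Polynomial T) T')).mul hU'
  let Ψ : Localization M →ₐ[R] T' := IsLocalization.liftAlgHom (M := M) (f := Φ) fun m => hΦM m.2
  have hΨ : ∀ c, Ψ (algebraMap C (Localization M) c) = Φ c := fun c => by
    simp only [Ψ, IsLocalization.liftAlgHom_apply, IsLocalization.lift_eq]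
    rfl
  have hinj : Function.Injective Ψ := by
    rw [injective_iff_map_eq_zero]
    intro x hx
    obtain ⟨⟨c, m⟩, hc⟩ := IsLocalization.surj M x
    have h0 : Φ c = 0 := by
      rw [← hΨ, ← show x * algebraMap C (Localization M) m = algebraMap C (Localization M) c from hc, map_mul, hx,
        zero_mul]
    obtain ⟨v, rfl⟩ := hqs c
    rw [hΦq] at h0
    have hmap : Polynomial.mapAlgHom ε v = 0 := by
      refine IsLocalization.injective T' (M := Submonoid.powers (Polynomial.X : Polynomial T)) ?_
        (h0.trans (map_zero _).symm)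
      exact Submonoid.powers_le.mpr Polynomial.monic_X.mem_nonZeroDivisors
    have hv : v ∈ (Ideal.span (Set.range F)).map Polynomial.C := by
      rw [Ideal.mem_map_C_iff]
      intro i
      refine (SetLike.ext_iff.mp hF _).mpr ?_
      have := congrArg (fun w => Polynomial.coeff w i) hmap
      simpa using this
    have hXv : q (Polynomial.X * v) = 0 := by
      refine RingHom.mem_ker.mp ((SetLike.ext_iff.mp hqk _).mpr ?_)
      rw [Ideal.map_span, ← Set.range_comp] at hv
      obtain ⟨c, hc⟩ := Ideal.mem_span_range_iff_exists_fun.mp hv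
      rw [← hc, Finset.mul_sum]
      refine sum_mem fun l _ => ?_
      rw [mul_left_comm]
      exact Ideal.mul_mem_left _ _ (Ideal.subset_span (Or.inl ⟨l, rfl⟩))
    have hz : algebraMap C (Localization M) (q v) = 0 :=
      (IsLocalization.map_eq_zero_iff M (Localization M) _).mpr
        ⟨⟨q (yv * Polynomial.X), Submonoid.mem_sup_right (Submonoid.mem_powers _)⟩, by
          change q (yv * Polynomial.X) * q v = 0
          rw [map_mul q yv, mul_assoc, ← map_mul, hXv, mul_zero]⟩
    exact (IsLocalization.map_units (Localization M) m).mul_left_eq_zero.mp (hc.trans hz)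
  -- surjectivity
  have hsurj : Function.Surjective Ψ := by
    have hdiv : ∀ (x : T') (w : C), w ∈ M → x * Φ w ∈ Ψ.range → x ∈ Ψ.range := by
      rintro x w hw ⟨y, hy⟩
      obtain ⟨i, hi⟩ := (IsLocalization.map_units (Localization M) (⟨w, hw⟩ : M)).exists_right_inv
      refine ⟨y * i, ?_⟩
      change Ψ (y * i) = x
      rw [map_mul, show Ψ y = x * Φ w from hy, mul_assoc, ← hΨ, ← map_mul, hi, map_one, mul_one]
    have hΦr : ∀ c, Φ c ∈ Ψ.range := fun c => ⟨_, hΨ c⟩
    have hyX : q (yv * Polynomial.X) ∈ M := Submonoid.mem_sup_right (Submonoid.mem_powers _)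
    have hUr : U' ∈ Ψ.range := ⟨_, (hΨ (q Polynomial.X)).trans ((hΦq _).trans hε'X)⟩
    let jT : T →ₐ[R] T' := IsScalarTower.toAlgHom R T T'
    have hjT : ∀ t, jT t = algebraMap (Polynomial T) T' (Polynomial.C t) := fun t => rfl
    have hYr : jT Y ∈ Ψ.range := ⟨_, (hΨ (q yv)).trans ((hΦq _).trans (by
      rw [hε'C, aeval_X, hjT]; rfl))⟩
    have hdivU : ∀ x, x * U' ∈ Ψ.range → x ∈ Ψ.range := fun x hx => hdiv x _ hyX (by
      rw [hΦyX, ← hjT, mul_left_comm]
      exact mul_mem hYr hx)
    have hdivY : ∀ x, x * jT Y ∈ Ψ.range → x ∈ Ψ.range := fun x hx => hdiv x _ hyX (by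
      rw [hΦyX, ← hjT, ← mul_assoc]
      exact mul_mem hx hUr)
    have hcst : ∀ a : Rₚ, algebraMap Rₚ T' a ∈ Ψ.range := fun a => by
      obtain ⟨⟨r, t⟩, ht⟩ := IsLocalization.surj p.primeCompl a
      refine hdiv _ (algebraMap R C t) (Submonoid.mem_sup_left ⟨t, t.2, rfl⟩) ?_
      rw [AlgHom.commutes, IsScalarTower.algebraMap_apply R Rₚ T', ← map_mul, ht,
        ← IsScalarTower.algebraMap_apply]
      exact Subalgebra.algebraMap_mem _ r
    have hB : ∀ b : B', jT (ι b) ∈ Ψ.range := fun b => by
      obtain ⟨v, rfl⟩ := hψ b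
      induction v using MvPolynomial.induction_on with
      | C a =>
        rw [show ψ (MvPolynomial.C a) = algebraMap Rₚ B' a from ψ.commutes a]
        change algebraMap T T' (algebraMap B' T (algebraMap Rₚ B' a)) ∈ _
        rw [← IsScalarTower.algebraMap_apply Rₚ B' T, ← IsScalarTower.algebraMap_apply Rₚ T T']
        exact hcst a
      | add v w hv hw => rw [map_add, map_add, map_add]; exact add_mem hv hw
      | mul_X v i hv =>
        rw [map_mul, map_mul, map_mul]
        refine mul_mem hv (hdivY _ ⟨_, (hΨ (q (Polynomial.C (X (Sum.inl i))))).trans ((hΦq _).trans ?_)⟩)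
        rw [hε'C, aeval_X, ← hjT, ← map_mul, mul_comm]
        rfl
    have hT' : ∀ t : T, jT t ∈ Ψ.range := fun t => by
      obtain ⟨⟨v, ⟨_, e, rfl⟩⟩, hv⟩ := IsLocalization.surj (Submonoid.powers (Polynomial.X : Polynomial B')) t
      have hbase : ∀ v : Polynomial B', jT (algebraMap (Polynomial B') T v) ∈ Ψ.range := fun v => by
        induction v using Polynomial.induction_on with
        | C b => exact hB b
        | add v w hv hw => rw [map_add, map_add]; exact add_mem hv hw
        | monomial i b hb =>
          rw [pow_succ, ← mul_assoc, map_mul, map_mul]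
          exact mul_mem hb hYr
      have h1 : jT t * jT Y ^ e ∈ Ψ.range := by
        rw [← map_pow, ← map_mul]
        have : t * Y ^ e = algebraMap (Polynomial B') T v := by rw [← hv]; simp [Y]
        rw [this]
        exact hbase v
      clear hv
      induction e with
      | zero => simpa using h1
      | succ e ih => exact ih (hdivY _ (by rw [mul_assoc, ← pow_succ]; exact h1))
    intro x
    obtain ⟨⟨v, ⟨_, e, rfl⟩⟩, hv⟩ := IsLocalization.surj (Submonoid.powers (Polynomial.X : Polynomial T)) x
    have hbase : ∀ v : Polynomial T, algebraMap (Polynomial T) T' v ∈ Ψ.range := fun v => by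
      induction v using Polynomial.induction_on with
      | C b => exact hT' b
      | add v w hv hw => rw [map_add]; exact add_mem hv hw
      | monomial i b hb =>
        rw [pow_succ, ← mul_assoc, map_mul]
        exact mul_mem hb hUr
    have h1 : x * U' ^ e ∈ Ψ.range := by
      have : x * U' ^ e = algebraMap (Polynomial T) T' v := by rw [← hv]; simp [U']
      rw [this]
      exact hbase v
    clear hv
    suffices x ∈ Ψ.range from this
    induction e with
    | zero => simpa using h1
    | succ e ih => exact ih (hdivU _ (by rw [mul_assoc, ← pow_succ]; exact h1))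
  haveI : Algebra.FormallyEtale R Rₚ := Algebra.FormallyEtale.of_isLocalization p.primeCompl
  haveI : Algebra.FormallySmooth R B' := Algebra.FormallySmooth.comp R Rₚ B'
  haveI : Algebra.FormallySmooth B' T := Algebra.FormallySmooth.comp B' (Polynomial B') T
  haveI : Algebra.FormallySmooth R T := Algebra.FormallySmooth.comp R B' T
  haveI : Algebra.FormallySmooth T T' := Algebra.FormallySmooth.comp T (Polynomial T) T'
  haveI : Algebra.FormallySmooth R T' := Algebra.FormallySmooth.comp R T T'
  haveI : Algebra.FormallySmooth R (Localization M) :=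
    Algebra.FormallySmooth.of_equiv (AlgEquiv.ofBijective Ψ ⟨hinj, hsurj⟩).symm
  letI : Algebra (Localization M) (Localization.AtPrime Q) :=
    IsLocalization.localizationAlgebraOfSubmonoidLe (Localization M) (Localization.AtPrime Q) M Q.primeCompl hMQ
  haveI : IsScalarTower C (Localization M) (Localization.AtPrime Q) :=
    IsLocalization.localization_isScalarTower_of_submonoid_le _ _ M Q.primeCompl hMQ
  haveI : IsScalarTower R (Localization M) (Localization.AtPrime Q) := IsScalarTower.of_algebraMap_eq fun r => by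
    rw [IsScalarTower.algebraMap_apply R C (Localization.AtPrime Q),
      IsScalarTower.algebraMap_apply C (Localization M) (Localization.AtPrime Q),
      ← IsScalarTower.algebraMap_apply R C (Localization M)]
  haveI : IsLocalization (Q.primeCompl.map (algebraMap C (Localization M))) (Localization.AtPrime Q) :=
    IsLocalization.isLocalization_of_submonoid_le (Localization M) (Localization.AtPrime Q) M Q.primeCompl hMQ
  haveI : Algebra.FormallyEtale (Localization M) (Localization.AtPrime Q) :=
    Algebra.FormallyEtale.of_isLocalization (Q.primeCompl.map (algebraMap C (Localization M)))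
  have hsm : Algebra.IsSmoothAt R Q := Algebra.FormallySmooth.comp R (Localization M) (Localization.AtPrime Q)
  obtain ⟨f, hf, hfQ⟩ := exists_mem_singularIdeal_notMem Q hsm
  exact fun hle => hfQ (hle (Ideal.mem_map_of_mem _ hf))

open MvPolynomial in
theorem exists_glue {R A Λ C : Type u} [CommRing R] [IsNoetherianRing R] [CommRing A] [Algebra R A]
    [Algebra.FinitePresentation R A] [CommRing Λ] [Algebra R Λ] (φ : A →ₐ[R] Λ) {r : ℕ} (a : Fin r → A)
    (ha : ∀ i, a i ∈ Smoothing.singularIdeal R A) [CommRing C] [Algebra R C] [Algebra.FinitePresentation R C]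
    (g : A →ₐ[R] C) (h : C →ₐ[R] Λ) (hgh : h.comp g = φ) (c : C) (hc : c ∈ Smoothing.singularIdeal R C)
    (lam : Λ) (N : ℕ) (hN : ∀ i, lam * φ (a i) ^ N = 0) :
    ∃ (B : Type u) (_ : CommRing B) (_ : Algebra R B), Algebra.FinitePresentation R B ∧
      ∃ (α : A →ₐ[R] B) (β : B →ₐ[R] Λ), β.comp α = φ ∧
        (∀ i, φ (a i) ∈ ((Smoothing.singularIdeal R B).map β).radical) ∧
        lam * h c ∈ (Smoothing.singularIdeal R B).map β := by
  classical
  letI : Algebra A C := g.toRingHom.toAlgebra
  haveI : IsScalarTower R A C := IsScalarTower.of_algebraMap_eq fun x => (g.commutes x).symm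
  letI : Algebra A Λ := φ.toRingHom.toAlgebra
  haveI : IsScalarTower R A Λ := IsScalarTower.of_algebraMap_eq fun x => (φ.commutes x).symm
  haveI : Algebra.FinitePresentation A C :=
    Algebra.FinitePresentation.of_restrict_scalars_finitePresentation R A C
  obtain ⟨n, ψ, hψ, hψker⟩ := (inferInstance : Algebra.FinitePresentation A C).out
  obtain ⟨m, G, hG⟩ := Submodule.fg_iff_exists_fin_generating_family.mp hψker
  have hG0 : ∀ l, ψ (G l) = 0 := fun l => by
    have : G l ∈ RingHom.ker ψ.toRingHom := hG ▸ Ideal.subset_span ⟨l, rfl⟩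
    exact this
  let hA : C →ₐ[A] Λ := { h.toRingHom with commutes' := fun x => AlgHom.congr_fun hgh x }
  let σ := Fin n ⊕ Unit ⊕ Fin r
  let ev : MvPolynomial σ A →ₐ[A] Λ :=
    aeval (Sum.elim (fun i => h (ψ (X i))) (Sum.elim (fun _ => lam) fun i => φ (a i) ^ N))
  let yv : MvPolynomial (Fin n) A →ₐ[A] MvPolynomial σ A := rename Sum.inl
  have hevy : ∀ v, ev (yv v) = h (ψ v) := fun v => by
    refine AlgHom.congr_fun (φ₁ := ev.comp yv) (φ₂ := hA.comp ψ)
      (MvPolynomial.algHom_ext fun i => by simp [ev, yv, hA]) v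
  let tv : MvPolynomial σ A := X (Sum.inr (Sum.inl ()))
  let evr : Fin r → MvPolynomial σ A := fun i => X (Sum.inr (Sum.inr i))
  let rels : Set (MvPolynomial σ A) := Set.range (fun l => tv * yv (G l)) ∪ Set.range fun i => tv * evr i
  obtain ⟨B, _, _, _, _, q, hqs, hqk⟩ : ∃ (B : Type u) (_ : CommRing B) (_ : Algebra R B) (_ : Algebra A B)
      (_ : IsScalarTower R A B) (q : MvPolynomial σ A →ₐ[A] B),
      Function.Surjective q ∧ RingHom.ker q.toRingHom = Ideal.span rels :=
    ⟨MvPolynomial σ A ⧸ Ideal.span rels, inferInstance, inferInstance, inferInstance, inferInstance,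
      Ideal.Quotient.mkₐ A (Ideal.span rels), Ideal.Quotient.mkₐ_surjective A (Ideal.span rels),
      Ideal.Quotient.mkₐ_ker A (Ideal.span rels)⟩
  haveI : Algebra.FinitePresentation A B := Algebra.FinitePresentation.of_surjective hqs (by
    rw [hqk]
    exact Submodule.fg_span ((Set.finite_range _).union (Set.finite_range _)))
  haveI hBfp : Algebra.FinitePresentation R B := Algebra.FinitePresentation.trans R A B
  have hq0 : ∀ v ∈ rels, q v = 0 := fun v hv =>
    RingHom.mem_ker.mp ((SetLike.ext_iff.mp hqk v).mpr (Ideal.subset_span hv))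
  let βA : B →ₐ[A] Λ := AlgHom.liftOfSurjective q hqs ev (fun v hv => by
    refine RingHom.mem_ker.mpr (RingHom.mem_ker.mp
      ((Ideal.span_le (I := RingHom.ker ev)).mpr ?_ ((SetLike.ext_iff.mp hqk v).mp hv)))
    rintro _ (⟨l, rfl⟩ | ⟨i, rfl⟩)
    · simp only [SetLike.mem_coe, RingHom.mem_ker, map_mul, hevy, hG0, map_zero, mul_zero]
    · simp only [SetLike.mem_coe, RingHom.mem_ker, map_mul, tv, evr, ev, aeval_X, Sum.elim_inr, Sum.elim_inl, hN])
  let β : B →ₐ[R] Λ := βA.restrictScalars R
  have hβq : ∀ v, β (q v) = ev v := fun v => by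
    change βA (q v) = ev v
    exact AlgHom.liftOfSurjective_apply ..
  refine ⟨B, inferInstance, inferInstance, hBfp, IsScalarTower.toAlgHom R A B, β,
    AlgHom.ext fun x => βA.commutes x, fun i => ?_, ?_⟩
  · -- smoothness where `a i * e i` is invertible
    let f : B := algebraMap A B (a i) * q (evr i)
    let Lf := Localization.Away f
    have hfu : IsUnit (algebraMap B Lf f) := IsLocalization.Away.algebraMap_isUnit f
    obtain ⟨hau, heu⟩ : IsUnit (algebraMap A Lf (a i)) ∧ IsUnit (algebraMap B Lf (q (evr i))) := by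
      rw [IsScalarTower.algebraMap_apply A B Lf]
      simp only [f, map_mul, IsUnit.mul_iff] at hfu
      exact hfu
    haveI : Algebra.Smooth R (Localization.Away (a i)) :=
      Algebra.basicOpen_subset_smoothLocus_iff_smooth.mp (basicOpen_subset_of_mem_singularIdeal (ha i))
    haveI : Algebra.FormallySmooth R Lf := by
      refine Algebra.FormallySmooth.of_comp_surjective ?_
      intro T _ _ J hJ v
      let jA : Localization.Away (a i) →ₐ[R] Lf :=
        IsLocalization.liftAlgHom (M := Submonoid.powers (a i)) (f := IsScalarTower.toAlgHom R A Lf) (by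
          rintro ⟨_, k, rfl⟩
          rw [map_pow]
          exact hau.pow k)
      obtain ⟨w, hw⟩ := Algebra.FormallySmooth.comp_surjective R (Localization.Away (a i)) J hJ (v.comp jA)
      let wA : A →ₐ[R] T := w.comp (IsScalarTower.toAlgHom R A _)
      have hwv : ∀ x, Ideal.Quotient.mk J (wA x) = v (algebraMap A Lf x) := fun x => by
        refine (AlgHom.congr_fun hw (algebraMap A _ x)).trans ?_
        simp only [AlgHom.comp_apply, jA, IsLocalization.liftAlgHom_apply, IsLocalization.lift_eq]
        rfl
      letI : Algebra A T := wA.toRingHom.toAlgebra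
      haveI : IsScalarTower R A T := IsScalarTower.of_algebraMap_eq fun x => (wA.commutes x).symm
      choose lift hlift using fun x : σ => Ideal.Quotient.mk_surjective (v (algebraMap B Lf (q (X x))))
      let vals : σ → T := Sum.elim (fun j => lift (Sum.inl j)) (Sum.elim (fun _ => 0) fun j => lift (Sum.inr (Sum.inr j)))
      have htv : algebraMap B Lf (q tv) = 0 := by
        refine heu.mul_left_eq_zero.mp ?_
        rw [← map_mul, ← map_mul, hq0 _ (Or.inr ⟨i, rfl⟩), map_zero]
      let vB : B →ₐ[A] T := AlgHom.liftOfSurjective q hqs (aeval vals) (fun z hz => by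
        refine RingHom.mem_ker.mpr (RingHom.mem_ker.mp
          ((Ideal.span_le (I := RingHom.ker (aeval vals))).mpr ?_ ((SetLike.ext_iff.mp hqk z).mp hz)))
        rintro _ (⟨l, rfl⟩ | ⟨j, rfl⟩) <;>
          simp only [SetLike.mem_coe, RingHom.mem_ker, map_mul, tv, aeval_X, vals, Sum.elim_inr, Sum.elim_inl, zero_mul])
      have hvB : ∀ z, Ideal.Quotient.mk J (vB z) = v (algebraMap B Lf z) := by
        intro z
        obtain ⟨z, rfl⟩ := hqs z
        rw [AlgHom.liftOfSurjective_apply]
        refine RingHom.congr_fun (f := (Ideal.Quotient.mk J).comp (aeval vals).toRingHom)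
          (g := (v.toRingHom.comp (algebraMap B Lf)).comp q.toRingHom)
          (MvPolynomial.ringHom_ext (fun x => ?_) fun x => ?_) z
        · change Ideal.Quotient.mk J (aeval vals (MvPolynomial.C x)) = v (algebraMap B Lf (q (MvPolynomial.C x)))
          rw [aeval_C, show q (MvPolynomial.C x) = algebraMap A B x from q.commutes x, ← IsScalarTower.algebraMap_apply]
          exact hwv x
        · change Ideal.Quotient.mk J (aeval vals (X x)) = v (algebraMap B Lf (q (X x)))
          rcases x with x | x | x <;> simp only [aeval_X, vals, Sum.elim_inl, Sum.elim_inr, hlift]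
          rw [map_zero]
          exact (congrArg v htv).trans (map_zero v) |>.symm
      have hfT : IsUnit (vB f) := by
        refine (IsNilpotent.isUnit_quotient_mk_iff ⟨2, hJ⟩).mp ?_
        rw [hvB]
        exact hfu.map v
      refine ⟨IsLocalization.liftAlgHom (M := Submonoid.powers f) (f := vB.restrictScalars R) (by
          rintro ⟨_, k, rfl⟩
          rw [map_pow]
          exact hfT.pow k), IsLocalization.algHom_ext (Submonoid.powers f) (AlgHom.ext fun z => ?_)⟩
      change Ideal.Quotient.mk J (IsLocalization.liftAlgHom _ (algebraMap B Lf z)) = v (algebraMap B Lf z)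
      rw [IsLocalization.liftAlgHom_apply, IsLocalization.lift_eq]
      exact hvB z
    haveI : Algebra.FinitePresentation B Lf := IsLocalization.Away.finitePresentation f
    haveI : Algebra.Smooth R Lf := ⟨inferInstance, Algebra.FinitePresentation.trans R B Lf⟩
    have hf := Ideal.mem_map_of_mem β (mem_singularIdeal_of_smooth_away (R := R) f)
    have e : β f = φ (a i) ^ (N + 1) := by
      simp only [f, map_mul, hβq, evr, ev, aeval_X, Sum.elim_inr, pow_succ']
      rw [show β (algebraMap A B (a i)) = φ (a i) from βA.commutes _]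
    exact ⟨N + 1, e ▸ hf⟩
  · -- smoothness where `t * c` is invertible
    obtain ⟨c', hc'⟩ := hψ c
    let f : B := q (tv * yv c')
    let Lf := Localization.Away f
    have hfu : IsUnit (algebraMap B Lf f) := IsLocalization.Away.algebraMap_isUnit f
    obtain ⟨htu, hcu⟩ : IsUnit (algebraMap B Lf (q tv)) ∧ IsUnit (algebraMap B Lf (q (yv c'))) := by
      simp only [f, map_mul, IsUnit.mul_iff] at hfu
      exact hfu
    haveI : Algebra.Smooth R (Localization.Away c) :=
      Algebra.basicOpen_subset_smoothLocus_iff_smooth.mp (basicOpen_subset_of_mem_singularIdeal hc)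
    let jC : C →ₐ[A] Lf := AlgHom.liftOfSurjective ψ hψ (((IsScalarTower.toAlgHom A B Lf).comp q).comp yv)
      (fun z hz => by
        refine RingHom.mem_ker.mpr (RingHom.mem_ker.mp ((Ideal.span_le (I := RingHom.ker
          (((IsScalarTower.toAlgHom A B Lf).comp q).comp yv))).mpr ?_ ((SetLike.ext_iff.mp hG z).mpr hz)))
        rintro _ ⟨l, rfl⟩
        change algebraMap B Lf (q (yv (G l))) = 0
        refine htu.mul_right_eq_zero.mp ?_
        rw [← map_mul, ← map_mul, hq0 _ (Or.inl ⟨l, rfl⟩), map_zero])
    have hjC : ∀ z, jC (ψ z) = algebraMap B Lf (q (yv z)) := fun z => AlgHom.liftOfSurjective_apply ..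
    haveI : Algebra.FormallySmooth R Lf := by
      refine Algebra.FormallySmooth.of_comp_surjective ?_
      intro T _ _ J hJ v
      let jc : Localization.Away c →ₐ[R] Lf :=
        IsLocalization.liftAlgHom (M := Submonoid.powers c) (f := jC.restrictScalars R) (by
          rintro ⟨_, k, rfl⟩
          rw [map_pow]
          refine IsUnit.pow k ?_
          change IsUnit (jC c)
          rw [← hc', hjC]
          exact hcu)
      obtain ⟨w, hw⟩ := Algebra.FormallySmooth.comp_surjective R (Localization.Away c) J hJ (v.comp jc)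
      let wC : C →ₐ[R] T := w.comp (IsScalarTower.toAlgHom R C _)
      have hwv : ∀ x, Ideal.Quotient.mk J (wC x) = v (jC x) := fun x => by
        refine (AlgHom.congr_fun hw (algebraMap C _ x)).trans ?_
        simp only [AlgHom.comp_apply, jc, IsLocalization.liftAlgHom_apply, IsLocalization.lift_eq]
        rfl
      letI : Algebra A T := (wC.comp g).toRingHom.toAlgebra
      haveI : IsScalarTower R A T := IsScalarTower.of_algebraMap_eq fun x => ((wC.comp g).commutes x).symm
      let wA : C →ₐ[A] T := { wC.toRingHom with commutes' := fun _ => rfl }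
      obtain ⟨t', ht'⟩ := Ideal.Quotient.mk_surjective (v (algebraMap B Lf (q tv)))
      let vals : σ → T := Sum.elim (fun j => wC (ψ (X j))) (Sum.elim (fun _ => t') fun _ => 0)
      have hvy : ∀ z, aeval vals (yv z) = wC (ψ z) := fun z => by
        refine AlgHom.congr_fun (φ₁ := (aeval vals).comp yv) (φ₂ := wA.comp ψ)
          (MvPolynomial.algHom_ext fun j => by simp [vals, yv, wA]) z
      let vB : B →ₐ[A] T := AlgHom.liftOfSurjective q hqs (aeval vals) (fun z hz => by
        refine RingHom.mem_ker.mpr (RingHom.mem_ker.mp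
          ((Ideal.span_le (I := RingHom.ker (aeval vals))).mpr ?_ ((SetLike.ext_iff.mp hqk z).mp hz)))
        rintro _ (⟨l, rfl⟩ | ⟨j, rfl⟩)
        · simp only [SetLike.mem_coe, RingHom.mem_ker, map_mul, hvy, hG0, map_zero, mul_zero]
        · simp only [SetLike.mem_coe, RingHom.mem_ker, map_mul, evr, aeval_X, vals, Sum.elim_inr, mul_zero])
      have he : ∀ j, algebraMap B Lf (q (evr j)) = 0 := fun j => by
        refine htu.mul_right_eq_zero.mp ?_
        rw [← map_mul, ← map_mul, hq0 _ (Or.inr ⟨j, rfl⟩), map_zero]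
      have hvB : ∀ z, Ideal.Quotient.mk J (vB z) = v (algebraMap B Lf z) := by
        intro z
        obtain ⟨z, rfl⟩ := hqs z
        rw [AlgHom.liftOfSurjective_apply]
        refine RingHom.congr_fun (f := (Ideal.Quotient.mk J).comp (aeval vals).toRingHom)
          (g := (v.toRingHom.comp (algebraMap B Lf)).comp q.toRingHom)
          (MvPolynomial.ringHom_ext (fun x => ?_) fun x => ?_) z
        · change Ideal.Quotient.mk J (aeval vals (MvPolynomial.C x)) = v (algebraMap B Lf (q (MvPolynomial.C x)))
          rw [aeval_C, show q (MvPolynomial.C x) = algebraMap A B x from q.commutes x, ← IsScalarTower.algebraMap_apply,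
            ← jC.commutes x]
          exact hwv _
        · change Ideal.Quotient.mk J (aeval vals (X x)) = v (algebraMap B Lf (q (X x)))
          rcases x with x | x | x <;> simp only [aeval_X, vals, Sum.elim_inl, Sum.elim_inr]
          · rw [hwv, hjC]
            simp [yv]
          · exact ht'
          · rw [map_zero]
            exact ((congrArg v (he x)).trans (map_zero v)).symm
      have hfT : IsUnit (vB f) := by
        refine (IsNilpotent.isUnit_quotient_mk_iff ⟨2, hJ⟩).mp ?_
        rw [hvB]
        exact hfu.map v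
      refine ⟨IsLocalization.liftAlgHom (M := Submonoid.powers f) (f := vB.restrictScalars R) (by
          rintro ⟨_, k, rfl⟩
          rw [map_pow]
          exact hfT.pow k), IsLocalization.algHom_ext (Submonoid.powers f) (AlgHom.ext fun z => ?_)⟩
      change Ideal.Quotient.mk J (IsLocalization.liftAlgHom _ (algebraMap B Lf z)) = v (algebraMap B Lf z)
      rw [IsLocalization.liftAlgHom_apply, IsLocalization.lift_eq]
      exact hvB z
    haveI : Algebra.FinitePresentation B Lf := IsLocalization.Away.finitePresentation f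
    haveI : Algebra.Smooth R Lf := ⟨inferInstance, Algebra.FinitePresentation.trans R B Lf⟩
    have hf := Ideal.mem_map_of_mem β (mem_singularIdeal_of_smooth_away (R := R) f)
    have e : β f = lam * h c := by
      simp only [f, hβq, map_mul, hevy, hc']
      simp [tv, ev]
    exact e ▸ hf

end Groth.Agent.Desing
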