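import Mathlib
import Groth.Prelude.Def_Smoothing
import Groth.Agent.GeomRedSpread.Core
import Groth.Agent.IndSmoothLift.Basic
import Groth.Agent.StdSmooth.Strictly
import Groth.Agent.S2026
import Groth.Agent.S19959
import Groth.Agent.Desing.Delocalize
import Groth.Agent.Delocalize.Basic

/-!
Néron desingularisation for extensions of discrete valuation rings with ramification index one and
separable residue and fraction field extensions.
-/

set_option autoImplicit false
set_option linter.style.haveILetI false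
set_option linter.unusedSimpArgs false

universe u

namespace Groth.Agent.Desing

open TensorProduct

theorem indSmooth_of_geomReduced (k κ : Type u) [Field k] [Field κ] [Algebra k κ]
    [Algebra.IsGeometricallyReduced k κ] : Smoothing.IndSmooth k κ := by
  intro A _ _ hA f
  haveI := hA
  haveI : Algebra.FiniteType k f.range := Algebra.FiniteType.of_surjective f.rangeRestrict f.rangeRestrict_surjective
  haveI : Algebra.IsGeometricallyReduced k f.range :=
    Algebra.IsGeometricallyReduced.of_injective f.range.val Subtype.val_injective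
  haveI : Algebra.FinitePresentation k f.range := Algebra.FinitePresentation.of_finiteType.mp inferInstance
  obtain ⟨g, hg, hsm⟩ := Groth.Agent.GeomRedSpread.exists_nonZeroDivisor_smooth k f.range
  haveI : Algebra.Smooth k (Localization.Away g) :=
    Algebra.basicOpen_subset_smoothLocus_iff_smooth.mp fun q hq => hsm q hq
  have hu : IsUnit (f.range.val g) := isUnit_iff_ne_zero.mpr fun h0 =>
    nonZeroDivisors.ne_zero hg (Subtype.val_injective (h0.trans (map_zero f.range.val).symm))
  refine ⟨Localization.Away g, inferInstance, inferInstance, inferInstance,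
    (IsScalarTower.toAlgHom k f.range _).comp f.rangeRestrict,
    IsLocalization.liftAlgHom (M := Submonoid.powers g) (f := f.range.val) (by
      rintro ⟨_, i, rfl⟩
      rw [map_pow]
      exact hu.pow i), AlgHom.ext fun a => ?_⟩
  simp only [AlgHom.comp_apply, IsScalarTower.toAlgHom_apply, IsLocalization.liftAlgHom_apply,
    IsLocalization.lift_eq]
  rfl

attribute [local instance] Algebra.TensorProduct.rightAlgebra in
theorem exists_singular_ne_zero {R A K L : Type u} [CommRing R] [IsDomain R] [IsNoetherianRing R]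
    [CommRing A] [IsDomain A] [Algebra R A] [Algebra.FiniteType R A] [Field K] [Algebra R K]
    [IsFractionRing R K] [Field L] [Algebra R L] [Algebra K L] [IsScalarTower R K L]
    [Algebra.IsGeometricallyReduced K L] (j : A →ₐ[R] L) (hj : Function.Injective j) :
    ∃ f ∈ Smoothing.singularIdeal R A, f ≠ 0 := by
  classical
  haveI : Algebra.FinitePresentation R A := Algebra.FinitePresentation.of_finiteType.mp inferInstance
  let T := A ⊗[R] K
  haveI : IsLocalization (Algebra.algebraMapSubmonoid A (nonZeroDivisors R)) T := inferInstance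
  let e0 : T →ₐ[R] L := Algebra.TensorProduct.lift j (IsScalarTower.toAlgHom R K L) fun _ _ => Commute.all _ _
  have he0t : ∀ (a : A) (r : K), e0 (a ⊗ₜ[R] r) = j a * algebraMap K L r := fun a r =>
    Algebra.TensorProduct.lift_tmul ..
  have he0 : Function.Injective e0 := by
    rw [injective_iff_map_eq_zero]
    intro x hx
    obtain ⟨⟨a, s⟩, hs⟩ := IsLocalization.surj (Algebra.algebraMapSubmonoid A (nonZeroDivisors R)) x
    have h0 : j a = 0 := by
      have h := congrArg e0 hs
      rw [map_mul, hx, zero_mul] at h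
      erw [Algebra.TensorProduct.algebraMap_apply, he0t] at h
      simpa using h.symm
    rw [show a = 0 from hj (h0.trans (map_zero j).symm), map_zero] at hs
    exact (IsLocalization.map_units T s).mul_left_eq_zero.mp hs
  let e : T →ₐ[K] L := { e0.toRingHom with
    commutes' := fun r => by
      change e0 ((1 : A) ⊗ₜ[R] r) = algebraMap K L r
      rw [he0t, map_one, one_mul] }
  haveI : Algebra.FiniteType K T :=
    Algebra.FiniteType.equiv (inferInstance : Algebra.FiniteType K (K ⊗[R] A))
      { (Algebra.TensorProduct.comm R K A).toRingEquiv with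
        commutes' := fun r => by
          change Algebra.TensorProduct.comm R K A (r ⊗ₜ 1) = (1 : A) ⊗ₜ[R] r
          simp }
  haveI : IsDomain T := Function.Injective.isDomain e0.toRingHom he0
  haveI : Algebra.IsGeometricallyReduced K T := Algebra.IsGeometricallyReduced.of_injective e he0
  obtain ⟨g, hg, hsm⟩ := Groth.Agent.GeomRedSpread.exists_nonZeroDivisor_smooth K T
  haveI : (⊥ : Ideal T).IsPrime := Ideal.isPrime_bot
  have hg0 : g ∉ (⊥ : Ideal T) := fun h => nonZeroDivisors.ne_zero hg (Ideal.mem_bot.mp h)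
  haveI hT : Algebra.FormallySmooth K (Localization.AtPrime (⊥ : Ideal T)) := hsm ⟨⊥, Ideal.isPrime_bot⟩ hg0
  have hcomap : (⊥ : Ideal T).comap (algebraMap A T) = (⊥ : Ideal A) := by
    refine le_antisymm (fun a ha => ?_) bot_le
    rw [Ideal.mem_comap, Ideal.mem_bot] at ha
    refine Ideal.mem_bot.mpr (hj ?_)
    have h := congrArg e0 ha
    erw [Algebra.TensorProduct.algebraMap_apply, he0t] at h
    simpa using h
  haveI hloc : IsLocalization.AtPrime (Localization.AtPrime (⊥ : Ideal T)) ((⊥ : Ideal T).comap (algebraMap A T)) :=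
    IsLocalization.isLocalization_isLocalization_atPrime_isLocalization (Algebra.algebraMapSubmonoid A (nonZeroDivisors R)) (Localization.AtPrime (⊥ : Ideal T)) (⊥ : Ideal T)
  haveI : Algebra.FormallyEtale R K := Algebra.FormallyEtale.of_isLocalization (nonZeroDivisors R)
  haveI : IsScalarTower R K (Localization.AtPrime (⊥ : Ideal T)) := IsScalarTower.of_algebraMap_eq fun r => by
    rw [IsScalarTower.algebraMap_apply R T (Localization.AtPrime (⊥ : Ideal T)),
      IsScalarTower.algebraMap_apply K T (Localization.AtPrime (⊥ : Ideal T)),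
      ← IsScalarTower.algebraMap_apply R K T]
  haveI : Algebra.FormallySmooth R (Localization.AtPrime (⊥ : Ideal T)) := Algebra.FormallySmooth.comp R K _
  have hsmA : Algebra.IsSmoothAt R ((⊥ : Ideal T).comap (algebraMap A T)) :=
    Algebra.FormallySmooth.of_equiv
      ((IsLocalization.algEquiv ((⊥ : Ideal T).comap (algebraMap A T)).primeCompl
        (Localization.AtPrime (⊥ : Ideal T)) (Localization.AtPrime ((⊥ : Ideal T).comap (algebraMap A T)))).restrictScalars R)
  obtain ⟨f, hf, hfb⟩ := exists_mem_singularIdeal_notMem _ hsmA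
  exact ⟨f, hf, fun h => hfb (h ▸ zero_mem _)⟩

open MvPolynomial in
theorem exists_strictlyStandard {R A Λ : Type u} [CommRing R] [CommRing A] [Algebra R A] [CommRing Λ] [Algebra R Λ]
    (φ : A →ₐ[R] Λ) (a : A) (ha : Smoothing.IsElementaryStandard R A a) (z : Λ) (ρ : R)
    (hz : φ a * z = algebraMap R Λ ρ) :
    ∃ (B : Type u) (_ : CommRing B) (_ : Algebra R B), Algebra.FinitePresentation R B ∧
      ∃ (α : A →ₐ[R] B) (β : B →ₐ[R] Λ), β.comp α = φ ∧
        Smoothing.IsStrictlyStandard R B (algebraMap R B (ρ ^ 2)) := by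
  classical
  obtain ⟨P, ⟨a', ha'⟩, hkill⟩ := ha
  obtain ⟨n, m, c, hcn, hcm, f, hom, hsurj, hker⟩ := P
  dsimp only [Smoothing.KillsTail] at ha' hkill
  obtain ⟨al, hal⟩ := hsurj a
  obtain ⟨al', hal'⟩ := hsurj a'
  let old : MvPolynomial (Fin n) R →ₐ[R] MvPolynomial (Fin (n + 1)) R := rename (Fin.castAdd 1)
  let Zv : MvPolynomial (Fin (n + 1)) R := X (Fin.natAdd n 0)
  let newRel : MvPolynomial (Fin (n + 1)) R := old al * Zv - MvPolynomial.C ρ
  let rel : Fin (m + 1) → MvPolynomial (Fin (n + 1)) R := Fin.append (fun j => old (f j)) fun _ => newRel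
  obtain ⟨B, _, _, q, hqs, hqk⟩ : ∃ (B : Type u) (_ : CommRing B) (_ : Algebra R B)
      (q : MvPolynomial (Fin (n + 1)) R →ₐ[R] B),
      Function.Surjective q ∧ RingHom.ker q.toRingHom = Ideal.span (Set.range rel) :=
    ⟨MvPolynomial (Fin (n + 1)) R ⧸ Ideal.span (Set.range rel), inferInstance, inferInstance,
      Ideal.Quotient.mkₐ R (Ideal.span (Set.range rel)), Ideal.Quotient.mkₐ_surjective R (Ideal.span (Set.range rel)),
      Ideal.Quotient.mkₐ_ker R (Ideal.span (Set.range rel))⟩
  have hBfp : Algebra.FinitePresentation R B := Algebra.FinitePresentation.of_surjective hqs (by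
    rw [hqk]; exact Submodule.fg_span (Set.finite_range _))
  have hq0 : ∀ j, q (rel j) = 0 := fun j =>
    RingHom.mem_ker.mp ((SetLike.ext_iff.mp hqk _).mpr (Ideal.subset_span ⟨j, rfl⟩))
  let α : A →ₐ[R] B := AlgHom.liftOfSurjective hom hsurj (q.comp old) (fun v hv => by
    refine RingHom.mem_ker.mpr (RingHom.mem_ker.mp
      ((Ideal.span_le (I := RingHom.ker (q.comp old))).mpr ?_ ((SetLike.ext_iff.mp hker v).mp hv)))
    rintro _ ⟨j, rfl⟩
    have := hq0 (Fin.castAdd 1 j)
    simp only [rel, Fin.append_left] at this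
    exact this)
  let ev : MvPolynomial (Fin (n + 1)) R →ₐ[R] Λ := aeval (Fin.append (fun i => φ (hom (X i))) fun _ => z)
  have hevo : ∀ v, ev (old v) = φ (hom v) := fun v => by
    refine AlgHom.congr_fun (φ₁ := ev.comp old) (φ₂ := φ.comp hom)
      (MvPolynomial.algHom_ext fun i => by simp [ev, old]) v
  have hf0 : ∀ j, hom (f j) = 0 := fun j =>
    RingHom.mem_ker.mp ((SetLike.ext_iff.mp hker _).mpr (Ideal.subset_span ⟨j, rfl⟩))
  let β : B →ₐ[R] Λ := AlgHom.liftOfSurjective q hqs ev (fun v hv => by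
    refine RingHom.mem_ker.mpr (RingHom.mem_ker.mp
      ((Ideal.span_le (I := RingHom.ker ev)).mpr ?_ ((SetLike.ext_iff.mp hqk v).mp hv)))
    rintro _ ⟨j, rfl⟩
    simp only [SetLike.mem_coe, RingHom.mem_ker]
    induction j using Fin.addCases with
    | left j => simp only [rel, Fin.append_left, hevo, hf0, map_zero]
    | right j =>
      simp only [rel, Fin.append_right, newRel, map_sub, map_mul, hevo, hal]
      simp [ev, Zv, hz])
  refine ⟨B, inferInstance, inferInstance, hBfp, α, β, AlgHom.ext fun x => ?_,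
    Groth.Agent.StdSmooth.isStrictlyStandard_of_elementary _ ?_⟩
  · obtain ⟨v, rfl⟩ := hsurj x
    change β (α (hom v)) = _
    rw [AlgHom.liftOfSurjective_apply, AlgHom.comp_apply, AlgHom.liftOfSurjective_apply]
    exact hevo v
  let rows : Fin (c + 1) ↪ Fin (m + 1) :=
    ⟨Fin.append (fun i => Fin.castAdd 1 (Fin.castLE hcm i)) (Fin.natAdd m),
      Fin.append_injective_iff.mpr ⟨(Fin.castAdd_injective _ _).comp (Fin.castLE_injective _),
        Fin.natAdd_injective _ _, fun i j h => by have := congrArg Fin.val h; simp at this; omega⟩⟩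
  let cols : Fin (c + 1) ↪ Fin (n + 1) :=
    ⟨Fin.append (fun i => Fin.castAdd 1 (Fin.castLE hcn i)) (Fin.natAdd n),
      Fin.append_injective_iff.mpr ⟨(Fin.castAdd_injective _ _).comp (Fin.castLE_injective _),
        Fin.natAdd_injective _ _, fun i j h => by have := congrArg Fin.val h; simp at this; omega⟩⟩
  have hminor : Smoothing.jacobianMinor rel rows cols =
      old (Smoothing.jacobianMinor f (Fin.castLE hcm) (Fin.castLE hcn)) * old al := by
    have hM : (Matrix.of fun i j => pderiv (cols j) (rel (rows i))).submatrix finSumFinEquiv finSumFinEquiv =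
        Matrix.fromBlocks (Matrix.of fun i j => old (pderiv (Fin.castLE hcn j) (f (Fin.castLE hcm i)))) 0
          (Matrix.of fun (_ : Fin 1) j => pderiv (Fin.castAdd 1 (Fin.castLE hcn j)) newRel)
          (Matrix.diagonal fun _ : Fin 1 => old al) := by
      refine Matrix.ext fun i j => ?_
      rcases i with i | i <;> rcases j with j | j <;>
        simp only [Matrix.submatrix_apply, Matrix.of_apply, finSumFinEquiv_apply_left,
          finSumFinEquiv_apply_right, Matrix.fromBlocks_apply₁₁, Matrix.fromBlocks_apply₁₂,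
          Matrix.fromBlocks_apply₂₁, Matrix.fromBlocks_apply₂₂, Matrix.zero_apply, cols, rows,
          Function.Embedding.coeFn_mk, rel, Fin.append_left, Fin.append_right]
      · exact pderiv_rename (Fin.castAdd_injective _ _) _ _
      · exact Groth.Agent.Delocalize.pderiv_rename_of_notMem_range (fun a h => by
          have := congrArg Fin.val h; simp at this; omega) _
      · obtain rfl : i = j := Subsingleton.elim _ _
        have h0 : pderiv (Fin.natAdd n i) (old al) = 0 :=
          Groth.Agent.Delocalize.pderiv_rename_of_notMem_range (fun a h => by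
            have := congrArg Fin.val h; simp at this; omega) _
        have h1 : pderiv (Fin.natAdd n i) Zv = 1 := by
          rw [show (i : Fin 1) = 0 from Subsingleton.elim _ _]
          exact pderiv_X_self _
        rw [Matrix.diagonal_apply_eq, map_sub, pderiv_mul, h0, h1, pderiv_C, sub_zero, zero_mul, zero_add, mul_one]
    rw [Smoothing.jacobianMinor, ← Matrix.det_submatrix_equiv_self finSumFinEquiv, hM,
      Matrix.det_fromBlocks_zero₁₂, Matrix.det_diagonal, Fin.prod_univ_one]
    congr 1
    exact (old.toRingHom.map_det _).symm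
  refine Groth.Agent.StdSmooth.isElementaryStandard_of_choice rel q hqs hqk rows cols _
    (q (Zv ^ 2 * old al')) ?_ fun a₁ ha₁ l => ?_
  · have hnew : q (old al) * q Zv = algebraMap R B ρ := by
      have := hq0 (Fin.natAdd m 0)
      simp only [rel, Fin.append_right, newRel, map_sub, map_mul, sub_eq_zero] at this
      rw [this]
      exact q.commutes ρ
    have hold : q (old al') * q (old (Smoothing.jacobianMinor f (Fin.castLE hcm) (Fin.castLE hcn))) = q (old al) := by
      have h : ∀ v, q (old v) = α (hom v) := fun v => (AlgHom.liftOfSurjective_apply hom hsurj (q.comp old) _ v).symm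
      rw [h, h, h, ← map_mul, hal, hal', ← ha']
    rw [hminor, map_mul, map_mul, map_pow, map_pow, ← hnew]
    linear_combination -(q Zv ^ 2 * q (old al)) * hold
  · have hI : a₁ - MvPolynomial.C (ρ ^ 2) ∈ Ideal.span (Set.range rel) := by
      refine (SetLike.ext_iff.mp hqk _).mp (RingHom.mem_ker.mpr ?_)
      change q (a₁ - MvPolynomial.C (ρ ^ 2)) = 0
      rw [map_sub, ha₁, show q (MvPolynomial.C (ρ ^ 2)) = algebraMap R B (ρ ^ 2) from q.commutes _, sub_self]
    rw [show a₁ * rel l = (a₁ - MvPolynomial.C (ρ ^ 2)) * rel l + MvPolynomial.C (ρ ^ 2) * rel l by ring]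
    refine add_mem (Submodule.mem_sup_right (by rw [sq (Ideal.span (Set.range rel))]; exact Ideal.mul_mem_mul hI (Ideal.subset_span ⟨l, rfl⟩))) ?_
    have hlead : ∀ i, rel (rows i) ∈ Ideal.span (Set.range (rel ∘ rows)) := fun i => Ideal.subset_span ⟨i, rfl⟩
    induction l using Fin.addCases with
    | right i =>
      refine Submodule.mem_sup_left (Ideal.mul_mem_left _ _ ?_)
      have := hlead (Fin.natAdd c i)
      simpa [rows] using this
    | left j =>
      have hnewmem : newRel ∈ Ideal.span (Set.range (rel ∘ rows)) := by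
        have := hlead (Fin.natAdd c 0)
        simpa [rows, rel] using this
      have hjm : al * f j ∈ Ideal.span (f '' {j' : Fin m | (j' : ℕ) < c}) ⊔ Ideal.span (Set.range f) ^ 2 := by
        rcases lt_or_ge (j : ℕ) c with hj | hj
        · exact Submodule.mem_sup_left (Ideal.mul_mem_left _ _ (Ideal.subset_span ⟨j, hj, rfl⟩))
        · exact hkill al hal j hj
      have hmap : (Ideal.span (f '' {j' : Fin m | (j' : ℕ) < c}) ⊔ Ideal.span (Set.range f) ^ 2).map old ≤
          Ideal.span (Set.range (rel ∘ rows)) ⊔ Ideal.span (Set.range rel) ^ 2 := by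
        rw [Ideal.map_sup, Ideal.map_pow, Ideal.map_span, Ideal.map_span]
        refine sup_le_sup (Ideal.span_le.mpr ?_) (Ideal.pow_right_mono (Ideal.span_le.mpr ?_) 2)
        · rintro _ ⟨_, ⟨j', hj', rfl⟩, rfl⟩
          have e : rel (rows (Fin.castAdd 1 ⟨j', hj'⟩)) = old (f j') := by
            simp only [rows, Function.Embedding.coeFn_mk, rel, Fin.append_left]
            rfl
          exact e ▸ hlead (Fin.castAdd 1 ⟨j', hj'⟩)
        · rintro _ ⟨_, ⟨j', rfl⟩, rfl⟩
          refine Ideal.subset_span ⟨Fin.castAdd 1 j', ?_⟩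
          simp [rel]
      have h1 := hmap (Ideal.mem_map_of_mem old hjm)
      simp only [rel, Fin.append_left]
      have e : MvPolynomial.C (ρ ^ 2) * old (f j) =
          (Zv ^ 2 * old al) * old (al * f j) + (-newRel * old (f j) * (MvPolynomial.C ρ + old al * Zv)) := by
        simp only [newRel, map_mul, map_pow]
        ring
      rw [e]
      refine add_mem (Ideal.mul_mem_left _ _ h1) (Submodule.mem_sup_left ?_)
      rw [mul_assoc]
      exact Ideal.mul_mem_right _ _ (neg_mem hnewmem)

theorem indSmooth_quotient_dvr {R Λ : Type u} [CommRing R] [IsDomain R] [IsDiscreteValuationRing R] [CommRing Λ]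
    [IsDomain Λ] [IsDiscreteValuationRing Λ] [Algebra R Λ] [NoZeroSMulDivisors R Λ] [IsLocalHom (algebraMap R Λ)]
    (he : (IsLocalRing.maximalIdeal R).map (algebraMap R Λ) = IsLocalRing.maximalIdeal Λ)
    [Algebra.IsGeometricallyReduced (IsLocalRing.ResidueField R) (IsLocalRing.ResidueField Λ)]
    (P : Ideal R) (hP : P ≤ IsLocalRing.maximalIdeal R) (N : ℕ) (hN : IsLocalRing.maximalIdeal R ^ N ≤ P) :
    Smoothing.IndSmooth (R ⧸ P) (Λ ⧸ P.map (algebraMap R Λ)) := by
  classical
  haveI : Module.Flat R Λ := inferInstance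
  let eL : ((R ⧸ P) ⊗[R] Λ) ≃ₗ[R] Λ ⧸ P.map (algebraMap R Λ) :=
    (TensorProduct.comm R _ _).trans ((Ideal.qoutMapEquivTensorQout Λ (I := P)).symm.restrictScalars R)
  haveI : Module.Flat (R ⧸ P) (Λ ⧸ P.map (algebraMap R Λ)) :=
    Module.Flat.of_linearEquiv (LinearEquiv.extendScalarsOfSurjective
      (show Function.Surjective (algebraMap R (R ⧸ P)) from Ideal.Quotient.mk_surjective) eL).symm
  let I : Ideal (R ⧸ P) := (IsLocalRing.maximalIdeal R).map (Ideal.Quotient.mkₐ R P)
  have hInil : I ^ (N + 1) = ⊥ := by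
    rw [← Ideal.map_pow, Ideal.map_eq_bot_iff_le_ker]
    exact fun x hx => Ideal.Quotient.eq_zero_iff_mem.mpr (hN (Ideal.pow_le_pow_right (Nat.le_succ N) hx))
  refine Groth.Agent.IndSmoothLift.indSmooth_of_nilpotent N I hInil ?_
  let eR : (R ⧸ IsLocalRing.maximalIdeal R) ≃ₐ[R] (R ⧸ P) ⧸ I :=
    ((DoubleQuot.quotQuotEquivQuotSupₐ R P (IsLocalRing.maximalIdeal R)).trans
      (Ideal.quotientEquivAlgOfEq R (sup_eq_right.mpr hP))).symm
  have hIΛ : I.map (algebraMap (R ⧸ P) (Λ ⧸ P.map (algebraMap R Λ))) =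
      (IsLocalRing.maximalIdeal Λ).map (Ideal.Quotient.mkₐ R (P.map (algebraMap R Λ))) := by
    rw [← he]
    change ((IsLocalRing.maximalIdeal R).map (Ideal.Quotient.mk P)).map _ =
      ((IsLocalRing.maximalIdeal R).map (algebraMap R Λ)).map (Ideal.Quotient.mk _)
    rw [Ideal.map_map, Ideal.map_map]
    rfl
  have hPΛ : P.map (algebraMap R Λ) ≤ IsLocalRing.maximalIdeal Λ := he ▸ Ideal.map_mono hP
  let eΛ : (Λ ⧸ IsLocalRing.maximalIdeal Λ) ≃ₐ[R]
      (Λ ⧸ P.map (algebraMap R Λ)) ⧸ I.map (algebraMap (R ⧸ P) (Λ ⧸ P.map (algebraMap R Λ))) :=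
    (((Ideal.quotientEquivAlgOfEq R hIΛ).trans
      (DoubleQuot.quotQuotEquivQuotSupₐ R (P.map (algebraMap R Λ)) (IsLocalRing.maximalIdeal Λ))).trans
        (Ideal.quotientEquivAlgOfEq R (sup_eq_right.mpr hPΛ))).symm
  letI : Algebra (IsLocalRing.ResidueField R) ((R ⧸ P) ⧸ I) := eR.toAlgHom.toRingHom.toAlgebra
  letI : Algebra (IsLocalRing.ResidueField R)
      ((Λ ⧸ P.map (algebraMap R Λ)) ⧸ I.map (algebraMap (R ⧸ P) (Λ ⧸ P.map (algebraMap R Λ)))) :=
    ((algebraMap ((R ⧸ P) ⧸ I) _).comp eR.toAlgHom.toRingHom).toAlgebra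
  haveI : IsScalarTower (IsLocalRing.ResidueField R) ((R ⧸ P) ⧸ I)
      ((Λ ⧸ P.map (algebraMap R Λ)) ⧸ I.map (algebraMap (R ⧸ P) (Λ ⧸ P.map (algebraMap R Λ)))) :=
    IsScalarTower.of_algebraMap_eq fun _ => rfl
  let e : IsLocalRing.ResidueField Λ ≃ₐ[IsLocalRing.ResidueField R]
      (Λ ⧸ P.map (algebraMap R Λ)) ⧸ I.map (algebraMap (R ⧸ P) (Λ ⧸ P.map (algebraMap R Λ))) :=
    AlgEquiv.ofRingEquiv (f := eΛ.toRingEquiv) fun x => by
      obtain ⟨r, rfl⟩ := IsLocalRing.residue_surjective x
      rfl
  exact Groth.Agent.IndSmoothLift.indSmooth_of_bijective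
    (show Function.Bijective (algebraMap (IsLocalRing.ResidueField R) ((R ⧸ P) ⧸ I)) from eR.bijective) e
    (indSmooth_of_geomReduced (IsLocalRing.ResidueField R) (IsLocalRing.ResidueField Λ))

theorem indSmooth_dvr {R Λ K L : Type u} [CommRing R] [IsDomain R]
    [IsDiscreteValuationRing R] [CommRing Λ] [IsDomain Λ] [IsDiscreteValuationRing Λ] [Algebra R Λ]
    [NoZeroSMulDivisors R Λ] [IsLocalHom (algebraMap R Λ)]
    (he : (IsLocalRing.maximalIdeal R).map (algebraMap R Λ) = IsLocalRing.maximalIdeal Λ)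
    [Algebra.IsGeometricallyReduced (IsLocalRing.ResidueField R) (IsLocalRing.ResidueField Λ)]
    [Field K] [Algebra R K] [IsFractionRing R K] [Field L] [Algebra Λ L] [IsFractionRing Λ L]
    [Algebra K L] [Algebra R L] [IsScalarTower R K L] [IsScalarTower R Λ L]
    [Algebra.IsGeometricallyReduced K L] : Smoothing.IndSmooth R Λ := by
  intro A₀ _ _ hA₀ φ₀
  haveI := hA₀
  classical
  haveI : Algebra.FiniteType R φ₀.range :=
    Algebra.FiniteType.of_surjective φ₀.rangeRestrict φ₀.rangeRestrict_surjective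
  haveI : Algebra.FinitePresentation R φ₀.range := Algebra.FinitePresentation.of_finiteType.mp inferInstance
  obtain ⟨f, hf, hf0⟩ := exists_singular_ne_zero (K := K) ((IsScalarTower.toAlgHom R Λ L).comp φ₀.range.val)
    ((IsFractionRing.injective Λ L).comp Subtype.val_injective)
  rw [(Groth.Agent.S2026.result (R := R) (A := φ₀.range)).2] at hf
  have hex : ∃ a : φ₀.range, Smoothing.IsElementaryStandard R φ₀.range a ∧ φ₀.range.val a ≠ 0 := by
    by_contra hne
    push Not at hne
    refine hf0 (Subtype.val_injective ?_)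
    haveI : (RingHom.ker φ₀.range.val).IsPrime := RingHom.ker_isPrime _
    exact (Ideal.IsPrime.radical_le_iff inferInstance).mpr
      (Ideal.span_le.mpr fun a ha => RingHom.mem_ker.mpr (hne a ha)) hf
  obtain ⟨a, hael, ha0⟩ := hex
  obtain ⟨p, hp⟩ := IsDiscreteValuationRing.exists_irreducible R
  have hmax : IsLocalRing.maximalIdeal R = Ideal.span {p} := Irreducible.maximalIdeal_eq hp
  have hmaxΛ : IsLocalRing.maximalIdeal Λ = Ideal.span {algebraMap R Λ p} := by
    rw [← he, hmax, Ideal.map_span, Set.image_singleton]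
  have hpΛ : Irreducible (algebraMap R Λ p) :=
    (IsDiscreteValuationRing.irreducible_iff_uniformizer _).mpr hmaxΛ
  obtain ⟨k, u, hu⟩ := IsDiscreteValuationRing.eq_unit_mul_pow_irreducible ha0 hpΛ
  obtain ⟨B, _, _, hBfp, α, β, hβα, hstd⟩ := exists_strictlyStandard φ₀.range.val a hael
    (((u⁻¹ : Λˣ) : Λ) * algebraMap R Λ p) (p ^ (k + 1)) (by
      rw [map_pow, hu]
      calc (u : Λ) * algebraMap R Λ p ^ k * (((u⁻¹ : Λˣ) : Λ) * algebraMap R Λ p)
          = ((u : Λ) * ((u⁻¹ : Λˣ) : Λ)) * algebraMap R Λ p ^ (k + 1) := by ring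
        _ = algebraMap R Λ p ^ (k + 1) := by rw [Units.mul_inv, one_mul])
  haveI := hBfp
  let π : R := (p ^ (k + 1)) ^ 2
  have hπ0 : π ≠ 0 := pow_ne_zero _ (pow_ne_zero _ hp.ne_zero)
  have hR : ∀ r : R, π ^ 2 * r = 0 → π * r = 0 := fun r hr => by
    rw [(mul_eq_zero.mp hr).resolve_left (pow_ne_zero _ hπ0), mul_zero]
  have hΛ : ∀ x : Λ, π ^ 2 • x = 0 → π • x = 0 := fun x hx => by
    rw [(smul_eq_zero.mp hx).resolve_left (pow_ne_zero _ hπ0), smul_zero]
  let P : Ideal R := Ideal.span {π ^ 8}
  have hPm : P ≤ IsLocalRing.maximalIdeal R := by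
    rw [hmax, Ideal.span_singleton_le_span_singleton]
    exact dvd_pow (dvd_pow (dvd_pow_self p (Nat.succ_ne_zero k)) two_ne_zero) (by norm_num)
  have hind := indSmooth_quotient_dvr he P hPm ((k + 1) * 2 * 8) (le_of_eq (by
    rw [hmax, Ideal.span_singleton_pow, pow_mul, pow_mul]))
  have hspan : P.map (algebraMap R Λ) = Ideal.span {algebraMap R Λ (π ^ 8)} := by
    rw [Ideal.map_span, Set.image_singleton]
  let eΛ := Ideal.quotientEquivAlgOfEq R hspan
  let φP : (R ⧸ P) ⊗[R] B →ₐ[R ⧸ P] Λ ⧸ P.map (algebraMap R Λ) :=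
    Algebra.TensorProduct.lift (Algebra.ofId _ _) ((Ideal.Quotient.mkₐ R _).comp β) fun _ _ => Commute.all _ _
  obtain ⟨C, _, _, hC, g₁, h₁, hgh⟩ := hind _ inferInstance φP
  haveI := hC
  letI : Algebra R C := ((algebraMap (R ⧸ P) C).comp (Ideal.Quotient.mk P)).toAlgebra
  haveI : IsScalarTower R (R ⧸ P) C := IsScalarTower.of_algebraMap_eq fun _ => rfl
  let γ : B →ₐ[R] C := (g₁.restrictScalars R).comp Algebra.TensorProduct.includeRight
  obtain ⟨B', _, _, hB'fp, α', β', hβα', -, hsub⟩ :=
    Groth.Agent.S19959.result (C := C) π hR hΛ β hstd γ (eΛ.toAlgHom.comp (h₁.restrictScalars R)) (fun b => by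
      change eΛ (h₁ (g₁ ((1 : R ⧸ P) ⊗ₜ[R] b))) = _
      rw [← AlgHom.comp_apply, hgh]
      simp only [φP, Algebra.TensorProduct.lift_tmul, map_one, one_mul]
      rfl)
  haveI := hB'fp
  haveI : Algebra.Smooth (R ⧸ P) (Localization.Away (1 : C)) :=
    Algebra.Smooth.of_equiv ((IsLocalization.atOne C (Localization.Away (1 : C))).restrictScalars (R ⧸ P))
  have h1 : (1 : C) ∈ Smoothing.singularIdeal (R ⧸ P) C := mem_singularIdeal_of_smooth_away 1
  have hone : (1 : Λ ⧸ Ideal.span {algebraMap R Λ (π ^ 8)}) ∈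
      ((Smoothing.singularIdeal R B').map β').radical.map (Ideal.Quotient.mk _) := by
    have := hsub (Ideal.mem_map_of_mem _ h1)
    rwa [map_one] at this
  obtain ⟨y, hy, hy1⟩ := (Ideal.mem_map_iff_of_surjective _ Ideal.Quotient.mk_surjective).mp hone
  have hyu : IsUnit y := by
    by_contra hnu
    have h2 : y - 1 ∈ IsLocalRing.maximalIdeal Λ := by
      have := Ideal.Quotient.eq.mp (hy1.trans (map_one _).symm)
      rw [← hspan] at this
      exact (he ▸ Ideal.map_mono hPm) this
    have h3 := sub_mem ((IsLocalRing.mem_maximalIdeal y).mpr hnu) h2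
    rw [sub_sub_cancel] at h3
    exact (IsLocalRing.mem_maximalIdeal _).mp h3 isUnit_one
  have hnle : ¬ (Smoothing.singularIdeal R B').map β' ≤ IsLocalRing.maximalIdeal Λ := fun hle =>
    (IsLocalRing.mem_maximalIdeal y).mp
      ((IsLocalRing.maximalIdeal.isMaximal Λ).isPrime.radical_le_iff.mpr hle hy) hyu
  rw [Ideal.map_le_iff_le_comap] at hnle
  obtain ⟨b, hb, hbm⟩ := SetLike.not_le_iff_exists.mp hnle
  have hbu : IsUnit (β' b) := by
    by_contra hnu
    exact hbm ((IsLocalRing.mem_maximalIdeal _).mpr hnu)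
  haveI : Algebra.Smooth R (Localization.Away b) :=
    Algebra.basicOpen_subset_smoothLocus_iff_smooth.mp (basicOpen_subset_of_mem_singularIdeal hb)
  refine ⟨Localization.Away b, inferInstance, inferInstance, inferInstance,
    (IsScalarTower.toAlgHom R B' _).comp ((α'.comp α).comp φ₀.rangeRestrict),
    IsLocalization.liftAlgHom (M := Submonoid.powers b) (f := β') (by
      rintro ⟨_, i, rfl⟩
      rw [map_pow]
      exact hbu.pow i), AlgHom.ext fun x => ?_⟩
  simp only [AlgHom.comp_apply, IsScalarTower.toAlgHom_apply, IsLocalization.liftAlgHom_apply, IsLocalization.lift_eq]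
  change (β'.comp α') (α (φ₀.rangeRestrict x)) = φ₀ x
  rw [hβα', ← AlgHom.comp_apply, hβα]
  rfl

end Groth.Agent.Desing
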