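import Mathlib
import Groth.Prelude.Def_Smoothing
import Groth.Agent.S2110

/-!
Replacing an algebra by one with free differentials, keeping the smooth loci.
-/

set_option autoImplicit false
set_option linter.style.haveILetI false
set_option linter.unusedSimpArgs false

universe u

namespace Groth.Agent.Desing

open scoped TensorProduct

theorem exists_free_kaehler_smooth {R A : Type u} [CommRing R] [IsNoetherianRing R] [CommRing A] [Algebra R A]
    [Algebra.FinitePresentation R A] :
    ∃ (C : Type u) (_ : CommRing C) (_ : Algebra A C) (_ : Algebra R C) (_ : IsScalarTower R A C),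
      Algebra.FinitePresentation R C ∧ Nonempty (C →ₐ[A] A) ∧
      ∀ a : A, Algebra.Smooth R (Localization.Away a) →
        Algebra.Smooth R (Localization.Away (algebraMap A C a)) ∧
        Module.Free (Localization.Away (algebraMap A C a)) Ω[Localization.Away (algebraMap A C a)⁄R] := by
  classical
  let G := (Algebra.Presentation.ofFinitePresentation R A).toGenerators
  have hG : G.toExtension.ker.FG := (Algebra.Presentation.ofFinitePresentation R A).fg_ker
  let M := G.toExtension.Cotangent
  haveI : Module.Finite A M := Algebra.Extension.Cotangent.finite hG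
  haveI : IsScalarTower R A (SymmetricAlgebra A M) := IsScalarTower.of_algebraMap_eq' rfl
  haveI : Algebra.FiniteType A (SymmetricAlgebra A M) := by
    obtain ⟨s, hs⟩ := Module.Finite.fg_top (R := A) (M := M)
    refine ⟨s.image (SymmetricAlgebra.ι A M), Algebra.eq_top_iff.mpr fun c => ?_⟩
    rw [Finset.coe_image]
    induction c using SymmetricAlgebra.induction with
    | algebraMap r => exact Subalgebra.algebraMap_mem _ r
    | ι m =>
      have h1 : Submodule.map (SymmetricAlgebra.ι A M) (Submodule.span A (s : Set M)) ≤
          Subalgebra.toSubmodule (Algebra.adjoin A (SymmetricAlgebra.ι A M '' (s : Set M))) := by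
        rw [Submodule.map_span]
        exact Algebra.span_le_adjoin A _
      exact h1 ⟨m, by rw [hs]; trivial, rfl⟩
    | mul x y hx hy => exact mul_mem hx hy
    | add x y hx hy => exact add_mem hx hy
  haveI : Algebra.FiniteType R (SymmetricAlgebra A M) :=
    Algebra.FiniteType.trans (inferInstance : Algebra.FiniteType R A)
      (inferInstance : Algebra.FiniteType A (SymmetricAlgebra A M))
  haveI hfp : Algebra.FinitePresentation R (SymmetricAlgebra A M) :=
    Algebra.FinitePresentation.of_finiteType.mp inferInstance
  refine ⟨SymmetricAlgebra A M, inferInstance, inferInstance, inferInstance, inferInstance, hfp,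
    ⟨SymmetricAlgebra.algebraMapInv⟩, fun a hsm => ?_⟩
  obtain ⟨r, t, ⟨k, hk⟩, hr⟩ := Groth.Agent.S2110.exists_split G hG a hsm
  let C := SymmetricAlgebra A M
  let L := Localization.Away (algebraMap A C a)
  haveI : Algebra.FormallyEtale C L :=
    Algebra.FormallyEtale.of_isLocalization (Submonoid.powers (algebraMap A C a))
  have hu : IsUnit (algebraMap A L t) := by
    rw [← hk, map_pow, IsScalarTower.algebraMap_apply A C L a]
    exact (IsLocalization.Away.algebraMap_isUnit _).pow k
  refine ⟨?_, ?_⟩
  · haveI : Algebra.FormallySmooth R (Localization.Away a) := hsm.1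
    haveI : Algebra.FormallySmooth R L := by
      refine Algebra.FormallySmooth.of_comp_surjective ?_
      intro T _ _ J hJ v
      have hau : IsUnit (algebraMap A L a) := by
        rw [IsScalarTower.algebraMap_apply A C L a]
        exact IsLocalization.Away.algebraMap_isUnit _
      let jA : Localization.Away a →ₐ[R] L :=
        IsLocalization.liftAlgHom (M := Submonoid.powers a) (f := IsScalarTower.toAlgHom R A L) (by
          rintro ⟨_, i, rfl⟩
          rw [map_pow]
          exact hau.pow i)
      obtain ⟨w, hw⟩ := Algebra.FormallySmooth.comp_surjective R (Localization.Away a) J hJ (v.comp jA)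
      let wA : A →ₐ[R] T := w.comp (IsScalarTower.toAlgHom R A _)
      have hwA : ∀ x, Ideal.Quotient.mk J (wA x) = v (algebraMap A L x) := fun x => by
        refine (AlgHom.congr_fun hw (algebraMap A _ x)).trans ?_
        simp only [AlgHom.comp_apply, jA, IsLocalization.liftAlgHom_apply, IsLocalization.lift_eq]
        rfl
      letI : Algebra A T := wA.toRingHom.toAlgebra
      haveI : IsScalarTower R A T := IsScalarTower.of_algebraMap_eq fun x => (wA.commutes x).symm
      let vA : L →ₐ[A] T ⧸ J := { v.toRingHom with commutes' := fun x => (hwA x).symm }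
      have htT : IsUnit (algebraMap A T t) := by
        refine (IsNilpotent.isUnit_quotient_mk_iff ⟨2, hJ⟩).mp ?_
        change IsUnit (Ideal.Quotient.mk J (wA t))
        rw [hwA]
        exact hu.map v
      obtain ⟨ti, hti⟩ := htT.exists_left_inv
      let j : M →ₗ[A] L := (IsScalarTower.toAlgHom A C L).toLinearMap.comp (SymmetricAlgebra.ι A M)
      let fb : G.toExtension.CotangentSpace →ₗ[A] T ⧸ J := vA.toLinearMap.comp (j.comp r)
      choose lift hlift using fun i => Ideal.Quotient.mk_surjective (fb (G.cotangentSpaceBasis i))
      let fl : G.toExtension.CotangentSpace →ₗ[A] T := G.cotangentSpaceBasis.constr A lift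
      have hfl : (Ideal.Quotient.mkₐ A J).toLinearMap.comp fl = fb :=
        G.cotangentSpaceBasis.ext fun i => by simp [fl, hlift]
      let χ : M →ₗ[A] T := (LinearMap.mulLeft A ti).comp (fl.comp G.toExtension.cotangentComplex)
      let ψ : C →ₐ[A] T := SymmetricAlgebra.lift χ
      have hψ : ∀ c, Ideal.Quotient.mk J (ψ c) = v (algebraMap C L c) := by
        intro c
        refine AlgHom.congr_fun (φ₁ := (Ideal.Quotient.mkₐ A J).comp ψ)
          (φ₂ := vA.comp (IsScalarTower.toAlgHom A C L)) (SymmetricAlgebra.algHom_ext ?_) c
        refine LinearMap.ext fun m => ?_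
        change Ideal.Quotient.mkₐ A J (ψ (SymmetricAlgebra.ι A M m)) = vA (algebraMap C L (SymmetricAlgebra.ι A M m))
        have hι : ψ (SymmetricAlgebra.ι A M m) = ti * fl (G.toExtension.cotangentComplex m) :=
          SymmetricAlgebra.lift_ι_apply χ m
        rw [hι, map_mul]
        rw [show Ideal.Quotient.mkₐ A J (fl (G.toExtension.cotangentComplex m)) =
          fb (G.toExtension.cotangentComplex m) from LinearMap.congr_fun hfl _]
        simp only [fb, LinearMap.comp_apply, hr, map_smul]
        rw [Algebra.smul_def, ← mul_assoc]
        have h1 : Ideal.Quotient.mkₐ A J ti * algebraMap A (T ⧸ J) t = 1 := by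
          have := congrArg (Ideal.Quotient.mkₐ A J) hti
          rwa [map_mul, map_one, AlgHom.commutes] at this
        rw [h1, one_mul]
        rfl
      have hfT : IsUnit (ψ (algebraMap A C a)) := by
        refine (IsNilpotent.isUnit_quotient_mk_iff ⟨2, hJ⟩).mp ?_
        rw [hψ]
        exact (IsLocalization.Away.algebraMap_isUnit (algebraMap A C a)).map v
      refine ⟨IsLocalization.liftAlgHom (M := Submonoid.powers (algebraMap A C a)) (f := ψ.restrictScalars R) (by
          rintro ⟨_, i, rfl⟩
          rw [map_pow]
          exact hfT.pow i), IsLocalization.algHom_ext (Submonoid.powers (algebraMap A C a)) (AlgHom.ext fun z => ?_)⟩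
      change Ideal.Quotient.mk J (IsLocalization.liftAlgHom _ (algebraMap C L z)) = v (algebraMap C L z)
      rw [IsLocalization.liftAlgHom_apply, IsLocalization.lift_eq]
      exact hψ z
    haveI : Algebra.FinitePresentation C L := IsLocalization.Away.finitePresentation (algebraMap A C a)
    exact ⟨inferInstance, Algebra.FinitePresentation.trans R C L⟩
  · obtain ⟨e⟩ := Groth.Agent.SymKaehler.nonempty_equiv G.cotangentSpaceBasis
      G.toExtension.cotangentComplex G.toExtension.toKaehler
      G.toExtension.exact_cotangentComplex_toKaehler G.toExtension.toKaehler_surjective r t hr L hu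
    exact Module.Free.of_basis ((G.cotangentSpaceBasis.baseChange L).map e)

end Groth.Agent.Desing
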