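import Mathlib
import Groth.Prelude.Def_Smoothing
import Groth.Agent.SerreReg.CM
import Groth.Agent.SyntLib.Field
import Groth.Agent.IndSmoothLift.Basic
import Groth.Agent.S2026
import Groth.Agent.S2031
import Groth.Agent.S6822
import Groth.Agent.Desing.Delocalize
import Groth.Agent.Desing.DvrExt
import Groth.Agent.Desing.FreeKaehler
import Groth.Agent.Desing.Params

/-!
Resolution at a regular prime with separable residue field over a field.
-/

set_option autoImplicit false
set_option linter.style.haveILetI false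
set_option linter.unusedSimpArgs false

universe u

namespace Groth.Agent.Desing

open TensorProduct

theorem isWeaklyRegular_of_span_eq_maximalIdeal {S : Type u} [CommRing S] [IsRegularLocalRing S] (d : ℕ)
    (hd : ringKrullDim S = d) (x : Fin d → S) (h : Ideal.span (Set.range x) = IsLocalRing.maximalIdeal S) :
    RingTheory.Sequence.IsWeaklyRegular S (List.ofFn x) := by
  obtain ⟨rs, hlen, hreg, hspan⟩ := Groth.Agent.SerreReg.exists_regular_rsop d S hd
  have hseq := CMSop.hasRegSeq_of_isWeaklyRegular rs S hreg (fun r hr => hspan ▸ Ideal.subset_span hr)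
  rw [hlen] at hseq
  have hsop : CMSop.IsSop x := by
    rw [CMSop.IsSop, h, (IsLocalRing.maximalIdeal.isMaximal S).isPrime.radical]
  have := Groth.Agent.SerreReg.isWeaklyRegular_take_of_isSop hsop hseq d
  rwa [List.take_of_length_le (by simp)] at this

/-- Gluing in the zero dimensional case, without a minimality hypothesis. -/
theorem resolvable_of_factor {R A Λ C : Type u} [CommRing R] [IsNoetherianRing R] [CommRing A] [Algebra R A]
    [Algebra.FinitePresentation R A] [CommRing Λ] [Algebra R Λ] (φ : A →ₐ[R] Λ) (𝔮 : Ideal Λ) [𝔮.IsPrime]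
    [CommRing C] [Algebra R C] [Algebra.FinitePresentation R C] (g : A →ₐ[R] C) (h : C →ₐ[R] Λ)
    (hgh : h.comp g = φ) (hnle : ¬ (Smoothing.singularIdeal R C).map h ≤ 𝔮)
    (hnil : ∀ x ∈ 𝔮, ∃ (m : ℕ) (s : Λ), s ∉ 𝔮 ∧ s * x ^ m = 0) :
    Smoothing.Resolvable R φ 𝔮 := by
  classical
  by_cases hq : Smoothing.singRad R φ ≤ 𝔮
  swap
  · exact ⟨A, inferInstance, inferInstance, inferInstance, AlgHom.id R A, φ, AlgHom.comp_id φ, le_rfl, hq⟩
  rw [Ideal.map_le_iff_le_comap] at hnle
  obtain ⟨c, hc, hcq⟩ := SetLike.not_le_iff_exists.mp hnle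
  haveI : IsNoetherianRing A := Algebra.FiniteType.isNoetherianRing R A
  obtain ⟨r, a, ha⟩ := Submodule.fg_iff_exists_fin_generating_family.mp
    (IsNoetherian.noetherian (Smoothing.singularIdeal R A))
  have haS : ∀ i, a i ∈ Smoothing.singularIdeal R A := fun i => ha ▸ Submodule.subset_span ⟨i, rfl⟩
  have haq : ∀ i, φ (a i) ∈ 𝔮 := fun i =>
    hq (Ideal.le_radical (Ideal.mem_map_of_mem _ (haS i)))
  choose m s hsq hs using fun i => hnil _ (haq i)
  have hN : ∀ i, (∏ j, s j) * φ (a i) ^ (Finset.univ.sup m) = 0 := fun i => by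
    obtain ⟨d, hd⟩ := Nat.exists_eq_add_of_le (Finset.le_sup (f := m) (Finset.mem_univ i))
    rw [← Finset.mul_prod_erase _ _ (Finset.mem_univ i), hd, pow_add]
    linear_combination ((∏ j ∈ Finset.univ.erase i, s j) * φ (a i) ^ d) * hs i
  obtain ⟨B, _, _, hBfp, α, β, hβα, hrad, hmem⟩ :=
    exists_glue φ a haS g h hgh c hc (∏ j, s j) (Finset.univ.sup m) hN
  refine ⟨B, inferInstance, inferInstance, hBfp, α, β, hβα, ?_, fun hle => ?_⟩
  · refine (Ideal.IsRadical.radical_le_iff (Ideal.radical_isRadical _)).mpr (Ideal.map_le_iff_le_comap.mpr ?_)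
    rw [← ha]
    refine Submodule.span_le.mpr ?_
    rintro _ ⟨i, rfl⟩
    exact hrad i
  · rcases Ideal.IsPrime.mem_or_mem ‹_› (hle (Ideal.le_radical hmem)) with h1 | h1
    · exact Submonoid.prod_mem 𝔮.primeCompl (fun j _ => hsq j) h1
    · exact hcq h1

open MvPolynomial in
/-- The algebra over `k[t]` in which powers of the variables are strictly standard. -/
theorem exists_standard_cover {k A : Type u} [Field k] [CommRing A] [Algebra k A]
    [Algebra.FinitePresentation k A] {r : ℕ} (a : Fin r → A) (ha : ∀ j, a j ∈ Smoothing.singularIdeal k A)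
    (n d : ℕ) :
    ∃ (C : Type u) (_ : CommRing C) (_ : Algebra k C) (_ : Algebra (MvPolynomial (Fin d) k) C)
      (_ : IsScalarTower k (MvPolynomial (Fin d) k) C) (α : A →ₐ[k] C) (E : ℕ), 0 < E ∧
      Algebra.FinitePresentation (MvPolynomial (Fin d) k) C ∧
      (∀ i, Smoothing.IsStrictlyStandard (MvPolynomial (Fin d) k) C
        (algebraMap (MvPolynomial (Fin d) k) C (X i ^ E))) ∧
      (∀ j, α (a j) ∈ Smoothing.singularIdeal (MvPolynomial (Fin d) k) C) ∧
      ∀ (Λ : Type u) [CommRing Λ] [Algebra k Λ] [Algebra (MvPolynomial (Fin d) k) Λ]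
        [IsScalarTower k (MvPolynomial (Fin d) k) Λ] (φ : A →ₐ[k] Λ) (z : Fin d → Fin r → Λ),
        (∀ i, algebraMap (MvPolynomial (Fin d) k) Λ (X i) ^ n = ∑ j, z i j * φ (a j)) →
        ∃ β : C →ₐ[MvPolynomial (Fin d) k] Λ, ∀ x, β (α x) = φ x := by
  classical
  let σ := Fin d ⊕ Fin d × Fin r
  let rels : Fin d → MvPolynomial σ A := fun i =>
    X (Sum.inl i) ^ n - ∑ j, MvPolynomial.C (a j) * X (Sum.inr (i, j))
  obtain ⟨B, _, _, _, _, q, hqs, hqk⟩ : ∃ (B : Type u) (_ : CommRing B) (_ : Algebra k B) (_ : Algebra A B)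
      (_ : IsScalarTower k A B) (q : MvPolynomial σ A →ₐ[A] B),
      Function.Surjective q ∧ RingHom.ker q.toRingHom = Ideal.span (Set.range rels) :=
    ⟨MvPolynomial σ A ⧸ Ideal.span (Set.range rels), inferInstance, inferInstance, inferInstance, inferInstance,
      Ideal.Quotient.mkₐ A (Ideal.span (Set.range rels)), Ideal.Quotient.mkₐ_surjective A (Ideal.span (Set.range rels)),
      Ideal.Quotient.mkₐ_ker A (Ideal.span (Set.range rels))⟩
  let tB : MvPolynomial (Fin d) k →ₐ[k] B := aeval fun i => q (X (Sum.inl i))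
  letI : Algebra (MvPolynomial (Fin d) k) B := tB.toRingHom.toAlgebra
  haveI : IsScalarTower k (MvPolynomial (Fin d) k) B := IsScalarTower.of_algebraMap_eq fun x => (tB.commutes x).symm
  haveI : Algebra.FinitePresentation A B := Algebra.FinitePresentation.of_surjective hqs (by
    rw [hqk]; exact Submodule.fg_span (Set.finite_range _))
  haveI : Algebra.FinitePresentation k B := Algebra.FinitePresentation.trans k A B
  haveI : Algebra.FinitePresentation (MvPolynomial (Fin d) k) B :=
    Algebra.FinitePresentation.of_restrict_scalars_finitePresentation k (MvPolynomial (Fin d) k) B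
  have hq0 : ∀ i, q (rels i) = 0 := fun i =>
    RingHom.mem_ker.mp ((SetLike.ext_iff.mp hqk _).mpr (Ideal.subset_span ⟨i, rfl⟩))
  have htX : ∀ i, algebraMap (MvPolynomial (Fin d) k) B (X i) = q (X (Sum.inl i)) := fun i => by
    change tB (X i) = _
    simp [tB]
  have hqC : ∀ x, q (MvPolynomial.C x) = algebraMap A B x := fun x => q.commutes x
  have haB : ∀ j, algebraMap A B (a j) ∈ Smoothing.singularIdeal (MvPolynomial (Fin d) k) B := by
    intro j
    let f : B := algebraMap A B (a j)
    let Lf := Localization.Away f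
    have hfu : IsUnit (algebraMap B Lf f) := IsLocalization.Away.algebraMap_isUnit f
    have hau : IsUnit (algebraMap A Lf (a j)) := by
      rw [IsScalarTower.algebraMap_apply A B Lf]
      exact hfu
    haveI : Algebra.Smooth k (Localization.Away (a j)) :=
      Algebra.basicOpen_subset_smoothLocus_iff_smooth.mp (basicOpen_subset_of_mem_singularIdeal (ha j))
    haveI : Algebra.FormallySmooth (MvPolynomial (Fin d) k) Lf := by
      refine Algebra.FormallySmooth.of_comp_surjective ?_
      intro T _ _ J hJ v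
      letI : Algebra k T := ((algebraMap (MvPolynomial (Fin d) k) T).comp (algebraMap k (MvPolynomial (Fin d) k))).toAlgebra
      haveI : IsScalarTower k (MvPolynomial (Fin d) k) T := IsScalarTower.of_algebraMap_eq fun _ => rfl
      let jA : Localization.Away (a j) →ₐ[k] Lf :=
        IsLocalization.liftAlgHom (M := Submonoid.powers (a j)) (f := IsScalarTower.toAlgHom k A Lf) (by
          rintro ⟨_, i, rfl⟩
          rw [map_pow]
          exact hau.pow i)
      obtain ⟨w, hw⟩ := Algebra.FormallySmooth.comp_surjective k (Localization.Away (a j)) J hJ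
        ((v.restrictScalars k).comp jA)
      let wA : A →ₐ[k] T := w.comp (IsScalarTower.toAlgHom k A _)
      have hwv : ∀ x, Ideal.Quotient.mk J (wA x) = v (algebraMap A Lf x) := fun x => by
        refine (AlgHom.congr_fun hw (algebraMap A _ x)).trans ?_
        simp only [AlgHom.comp_apply, jA, IsLocalization.liftAlgHom_apply, IsLocalization.lift_eq]
        rfl
      have hua : IsUnit (wA (a j)) := by
        refine (IsNilpotent.isUnit_quotient_mk_iff ⟨2, hJ⟩).mp ?_
        rw [hwv]
        exact hau.map v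
      obtain ⟨ui, hui⟩ := hua.exists_left_inv
      letI : Algebra A T := wA.toRingHom.toAlgebra
      let tT : Fin d → T := fun i => algebraMap (MvPolynomial (Fin d) k) T (X i)
      choose z₀ hz₀ using fun x : Fin d × Fin r => Ideal.Quotient.mk_surjective (v (algebraMap B Lf (q (X (Sum.inr x)))))
      let D : Fin d → T := fun i => tT i ^ n - ∑ l, wA (a l) * z₀ (i, l)
      have htv : ∀ i, Ideal.Quotient.mk J (tT i) = v (algebraMap B Lf (q (X (Sum.inl i)))) := fun i => by
        rw [← htX, ← IsScalarTower.algebraMap_apply, AlgHom.commutes]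
        rfl
      have hD : ∀ i, Ideal.Quotient.mk J (D i) = 0 := fun i => by
        have h0 := congrArg (fun x => v (algebraMap B Lf x)) (hq0 i)
        simp only [rels, map_sub, map_pow, map_sum, map_mul, map_zero, hqC,
          ← IsScalarTower.algebraMap_apply, ← hwv, ← htv, ← hz₀] at h0
        simpa only [D, map_sub, map_pow, map_sum, map_mul] using h0
      let vals : σ → T := Sum.elim tT fun x => z₀ x + if x.2 = j then ui * D x.1 else 0
      let vB : B →ₐ[A] T := AlgHom.liftOfSurjective q hqs (aeval vals) (fun z hz => by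
        refine RingHom.mem_ker.mpr (RingHom.mem_ker.mp
          ((Ideal.span_le (I := RingHom.ker (aeval vals))).mpr ?_ ((SetLike.ext_iff.mp hqk z).mp hz)))
        rintro _ ⟨i, rfl⟩
        simp only [SetLike.mem_coe, RingHom.mem_ker, rels, map_sub, map_pow, map_sum, map_mul, aeval_X, aeval_C,
          vals, Sum.elim_inl, Sum.elim_inr, mul_add, Finset.sum_add_distrib, mul_ite, mul_zero,
          Finset.sum_ite_eq', Finset.mem_univ, if_true]
        change tT i ^ n - (∑ l, wA (a l) * z₀ (i, l) + wA (a j) * (ui * D i)) = 0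
        rw [← mul_assoc, mul_comm (wA (a j)), hui, one_mul]
        simp [D])
      have hvB : ∀ z, Ideal.Quotient.mk J (vB z) = v (algebraMap B Lf z) := by
        intro z
        obtain ⟨z, rfl⟩ := hqs z
        rw [AlgHom.liftOfSurjective_apply]
        refine RingHom.congr_fun (f := (Ideal.Quotient.mk J).comp (aeval vals).toRingHom)
          (g := (v.toRingHom.comp (algebraMap B Lf)).comp q.toRingHom)
          (MvPolynomial.ringHom_ext (fun x => ?_) fun x => ?_) z
        · change Ideal.Quotient.mk J (aeval vals (MvPolynomial.C x)) = v (algebraMap B Lf (q (MvPolynomial.C x)))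
          rw [aeval_C, hqC, ← IsScalarTower.algebraMap_apply]
          exact hwv x
        · change Ideal.Quotient.mk J (aeval vals (X x)) = v (algebraMap B Lf (q (X x)))
          rcases x with x | x
          · simp only [aeval_X, vals, Sum.elim_inl, htv]
          · simp only [aeval_X, vals, Sum.elim_inr, map_add, hz₀]
            split <;> simp [hD]
      let vBR : B →ₐ[MvPolynomial (Fin d) k] T :=
        { vB.toRingHom with
          commutes' := fun p => by
            change vB.toRingHom (tB p) = _
            refine RingHom.congr_fun (f := vB.toRingHom.comp tB.toRingHom) (g := algebraMap (MvPolynomial (Fin d) k) T)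
              (MvPolynomial.ringHom_ext (fun x => ?_) fun i => ?_) p
            · change vB (tB (MvPolynomial.C x)) = algebraMap k T x
              rw [show tB (MvPolynomial.C x) = algebraMap k B x from tB.commutes x,
                IsScalarTower.algebraMap_apply k A B, AlgHom.commutes]
              exact wA.commutes x
            · change vB (tB (X i)) = tT i
              rw [show tB (X i) = q (X (Sum.inl i)) by simp [tB], AlgHom.liftOfSurjective_apply, aeval_X]
              rfl }
      have hfT : IsUnit (vBR f) := by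
        refine (IsNilpotent.isUnit_quotient_mk_iff ⟨2, hJ⟩).mp ?_
        change IsUnit (Ideal.Quotient.mk J (vB f))
        rw [hvB]
        exact hfu.map v
      refine ⟨IsLocalization.liftAlgHom (M := Submonoid.powers f) (f := vBR) (by
          rintro ⟨_, i, rfl⟩
          rw [map_pow]
          exact hfT.pow i), IsLocalization.algHom_ext (Submonoid.powers f) (AlgHom.ext fun z => ?_)⟩
      change Ideal.Quotient.mk J (IsLocalization.liftAlgHom _ (algebraMap B Lf z)) = v (algebraMap B Lf z)
      rw [IsLocalization.liftAlgHom_apply, IsLocalization.lift_eq]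
      exact hvB z
    haveI : Algebra.FinitePresentation B Lf := IsLocalization.Away.finitePresentation f
    haveI : Algebra.Smooth (MvPolynomial (Fin d) k) Lf :=
      ⟨inferInstance, Algebra.FinitePresentation.trans _ B Lf⟩
    exact mem_singularIdeal_of_smooth_away f
  have hTB : ∀ i, algebraMap (MvPolynomial (Fin d) k) B (X i) ∈ Smoothing.singularIdeal (MvPolynomial (Fin d) k) B := by
    intro i
    have h : algebraMap (MvPolynomial (Fin d) k) B (X i) ^ n ∈ Smoothing.singularIdeal (MvPolynomial (Fin d) k) B := by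
      have h0 := hq0 i
      simp only [rels, map_sub, map_pow, map_sum, map_mul, sub_eq_zero, hqC, ← htX] at h0
      rw [h0]
      exact sum_mem fun j _ => Ideal.mul_mem_right _ _ (haB j)
    rw [Smoothing.singularIdeal, PrimeSpectrum.mem_vanishingIdeal] at h ⊢
    exact fun p hp => p.isPrime.mem_of_pow_mem n (h p hp)
  obtain ⟨C, _, _, _, _, hCfp, ⟨ret⟩, hsm⟩ :=
    exists_free_kaehler_smooth (R := MvPolynomial (Fin d) k) (A := B)
  haveI := hCfp
  letI : Algebra k C := ((algebraMap (MvPolynomial (Fin d) k) C).comp (algebraMap k (MvPolynomial (Fin d) k))).toAlgebra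
  haveI : IsScalarTower k (MvPolynomial (Fin d) k) C := IsScalarTower.of_algebraMap_eq fun _ => rfl
  let α : A →ₐ[k] C :=
    ((IsScalarTower.toAlgHom (MvPolynomial (Fin d) k) B C).restrictScalars k).comp (IsScalarTower.toAlgHom k A B)
  have hsmooth : ∀ x ∈ Smoothing.singularIdeal (MvPolynomial (Fin d) k) B,
      Algebra.Smooth (MvPolynomial (Fin d) k) (Localization.Away x) := fun x hx =>
    Algebra.basicOpen_subset_smoothLocus_iff_smooth.mp (basicOpen_subset_of_mem_singularIdeal hx)
  have hE : ∀ i, ∃ e₀ : ℕ, ∀ e, e₀ ≤ e → Smoothing.IsStrictlyStandard (MvPolynomial (Fin d) k) C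
      (algebraMap (MvPolynomial (Fin d) k) C (X i) ^ e) := by
    intro i
    obtain ⟨hsC, hfree⟩ := hsm _ (hsmooth _ (hTB i))
    rw [← IsScalarTower.algebraMap_apply] at hsC hfree
    haveI := hsC
    haveI := hfree
    let Li := Localization.Away (algebraMap (MvPolynomial (Fin d) k) C (X i))
    haveI : Algebra.FinitePresentation C Li :=
      IsLocalization.Away.finitePresentation (algebraMap (MvPolynomial (Fin d) k) C (X i))
    haveI : Module.Finite Li Ω[Li⁄MvPolynomial (Fin d) k] := inferInstance
    let b := Module.Free.chooseBasis Li Ω[Li⁄MvPolynomial (Fin d) k]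
    refine Groth.Agent.S2031.result _ 0 (Fintype.card (Module.Free.ChooseBasisIndex Li Ω[Li⁄MvPolynomial (Fin d) k])) ?_
    exact LinearEquiv.prodUnique.trans (b.reindex (Fintype.equivFin _)).equivFun
  choose e₀ he₀ using hE
  refine ⟨C, inferInstance, inferInstance, inferInstance, inferInstance, α, Finset.univ.sup e₀ + 1, Nat.succ_pos _,
    hCfp, fun i => ?_, fun j => ?_, ?_⟩
  · rw [map_pow]
    exact he₀ i _ ((Finset.le_sup (f := e₀) (Finset.mem_univ i)).trans (Nat.le_succ _))
  · obtain ⟨hsC, -⟩ := hsm _ (hsmooth _ (haB j))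
    haveI := hsC
    exact mem_singularIdeal_of_smooth_away (R := MvPolynomial (Fin d) k) (algebraMap B C (algebraMap A B (a j)))
  · intro Λ _ _ _ _ φ z hz
    letI : Algebra A Λ := φ.toRingHom.toAlgebra
    let vals : σ → Λ := Sum.elim (fun i => algebraMap (MvPolynomial (Fin d) k) Λ (X i)) fun x => z x.1 x.2
    let βA : B →ₐ[A] Λ := AlgHom.liftOfSurjective q hqs (aeval vals) (fun v hv => by
      refine RingHom.mem_ker.mpr (RingHom.mem_ker.mp
        ((Ideal.span_le (I := RingHom.ker (aeval vals))).mpr ?_ ((SetLike.ext_iff.mp hqk v).mp hv)))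
      rintro _ ⟨i, rfl⟩
      simp only [SetLike.mem_coe, RingHom.mem_ker, rels, map_sub, map_pow, map_sum, map_mul, aeval_X, aeval_C,
        vals, Sum.elim_inl, Sum.elim_inr]
      rw [hz, sub_eq_zero]
      exact Finset.sum_congr rfl fun j _ => mul_comm _ _)
    let β : B →ₐ[MvPolynomial (Fin d) k] Λ :=
      { βA.toRingHom with
        commutes' := fun p => by
          change βA.toRingHom (tB p) = _
          refine RingHom.congr_fun (f := βA.toRingHom.comp tB.toRingHom) (g := algebraMap (MvPolynomial (Fin d) k) Λ)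
            (MvPolynomial.ringHom_ext (fun x => ?_) fun i => ?_) p
          · change βA (tB (MvPolynomial.C x)) = algebraMap (MvPolynomial (Fin d) k) Λ (algebraMap k (MvPolynomial (Fin d) k) x)
            rw [show tB (MvPolynomial.C x) = algebraMap k B x from tB.commutes x,
              IsScalarTower.algebraMap_apply k A B, AlgHom.commutes]
            change φ (algebraMap k A x) = _
            rw [φ.commutes, ← IsScalarTower.algebraMap_apply]
          · change βA (tB (X i)) = algebraMap (MvPolynomial (Fin d) k) Λ (X i)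
            rw [show tB (X i) = q (X (Sum.inl i)) by simp [tB], AlgHom.liftOfSurjective_apply, aeval_X]
            rfl }
    refine ⟨β.comp (ret.restrictScalars (MvPolynomial (Fin d) k)), fun x => ?_⟩
    change βA (ret (algebraMap B C (algebraMap A B x))) = φ x
    rw [ret.commutes]
    exact βA.commutes x

theorem indSmooth_artinian {k R L : Type u} [Field k] [CommRing R] [Algebra k R] [CommRing L] [Algebra R L]
    [Algebra k L] [IsScalarTower k R L] [Module.Flat R L] (I : Ideal R) (N : ℕ) (hI : I ^ (N + 1) = ⊥)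
    (hbij : Function.Bijective (algebraMap k (R ⧸ I))) (hmax : (I.map (algebraMap R L)).IsMaximal)
    (κ : Type u) [Field κ] [Algebra k κ] [Algebra.IsGeometricallyReduced k κ] (ρ : L →ₐ[k] κ)
    (hρ : I.map (algebraMap R L) ≤ RingHom.ker ρ) : Smoothing.IndSmooth R L := by
  haveI := hmax
  letI : Field (L ⧸ I.map (algebraMap R L)) := Ideal.Quotient.field _
  let f : (L ⧸ I.map (algebraMap R L)) →ₐ[k] κ := Ideal.Quotient.liftₐ _ ρ hρ
  haveI : Algebra.IsGeometricallyReduced k (L ⧸ I.map (algebraMap R L)) :=
    Algebra.IsGeometricallyReduced.of_injective f f.toRingHom.injective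
  refine Groth.Agent.IndSmoothLift.indSmooth_of_nilpotent N I hI ?_
  haveI : IsScalarTower k (R ⧸ I) (L ⧸ I.map (algebraMap R L)) := IsScalarTower.of_algebraMap_eq fun x => by
    rw [IsScalarTower.algebraMap_apply k R (R ⧸ I), IsScalarTower.algebraMap_apply k L (L ⧸ I.map (algebraMap R L)),
      IsScalarTower.algebraMap_apply k R L]
    rfl
  exact Groth.Agent.IndSmoothLift.indSmooth_of_bijective hbij AlgEquiv.refl
    (indSmooth_of_geomReduced k (L ⧸ I.map (algebraMap R L)))

theorem mul_pow_eq_zero_iterate {L : Type u} [CommRing L] (J : Ideal L) (p : L)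
    (h : ∀ x, p ^ 2 * x ∈ J → p * x ∈ J) : ∀ (m : ℕ) (x : L), p ^ (m + 1) * x ∈ J → p * x ∈ J := by
  intro m
  induction m with
  | zero => intro x hx; simpa using hx
  | succ m ih =>
    intro x hx
    refine ih x ?_
    have := h (p ^ m * x) (by convert hx using 1; ring)
    convert this using 1
    ring

open MvPolynomial in
theorem resolvable_regular_separable {k A Λ : Type u} [Field k] [CommRing A] [Algebra k A]
    [Algebra.FinitePresentation k A] [CommRing Λ] [Algebra k Λ] [IsNoetherianRing Λ]
    (φ : A →ₐ[k] Λ) (𝔮 : Ideal Λ) [𝔮.IsPrime] (hmin : 𝔮 ∈ (Smoothing.singRad k φ).minimalPrimes)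
    [IsRegularLocalRing (Localization.AtPrime 𝔮)] [Algebra.IsGeometricallyReduced k 𝔮.ResidueField] :
    Smoothing.Resolvable k φ 𝔮 := by
  classical
  haveI : IsNoetherianRing A := Algebra.FiniteType.isNoetherianRing k A
  obtain ⟨r, a, ha⟩ := Submodule.fg_iff_exists_fin_generating_family.mp
    (IsNoetherian.noetherian (Smoothing.singularIdeal k A))
  have haS : ∀ j, a j ∈ Smoothing.singularIdeal k A := fun j => ha ▸ Submodule.subset_span ⟨j, rfl⟩
  let I : Ideal Λ := (Smoothing.singularIdeal k A).map φ
  have hIspan : I = Ideal.span (Set.range fun j => φ (a j)) := by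
    change Ideal.map φ _ = _
    rw [← ha]
    change Ideal.map φ (Ideal.span (Set.range a)) = _
    rw [Ideal.map_span, ← Set.range_comp]
    rfl
  have hIq : I ≤ 𝔮 := Ideal.le_radical.trans hmin.1.2
  let Lq := Localization.AtPrime 𝔮
  let f := algebraMap Λ Lq
  have hqm : 𝔮.map f = IsLocalRing.maximalIdeal Lq := Localization.AtPrime.map_eq_maximalIdeal
  obtain ⟨n, hn, hpow⟩ : ∃ n, 0 < n ∧ (𝔮 ^ n).map f ≤ I.map f := by
    have hle : IsLocalRing.maximalIdeal Lq ≤ (I.map f).radical := by
      rw [Ideal.radical_eq_sInf]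
      refine le_sInf fun P ⟨hP, hPp⟩ => ?_
      haveI := hPp
      have hdis := ((IsLocalization.isPrime_iff_isPrime_disjoint 𝔮.primeCompl Lq P).mp hPp).2
      have hPq : P.comap f ≤ 𝔮 := fun x hx => by
        by_contra hxq
        exact Set.disjoint_left.mp hdis hxq hx
      have hIP : Smoothing.singRad k φ ≤ P.comap f := by
        refine (Ideal.IsPrime.radical_le_iff (Ideal.comap_isPrime f P)).mpr ?_
        exact Ideal.map_le_iff_le_comap.mp hP
      have := hmin.2 ⟨Ideal.comap_isPrime f P, hIP⟩ hPq
      rw [← hqm, Ideal.map_le_iff_le_comap]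
      exact this
    obtain ⟨n, hn⟩ := Ideal.exists_radical_pow_le_of_fg (I.map f) (IsNoetherian.noetherian _)
    refine ⟨n + 1, Nat.succ_pos n, ?_⟩
    rw [Ideal.map_pow, hqm]
    exact ((Ideal.pow_le_pow_right (Nat.le_succ n)).trans (Ideal.pow_right_mono hle n)).trans hn
  obtain ⟨d, hd⟩ := Groth.Agent.SerreReg.exists_dim_nat Lq
  obtain ⟨C, _, _, _, _, α, E, hE, hCfp, hstd, haC, huniv⟩ := exists_standard_cover a haS n d
  haveI := hCfp
  obtain ⟨p, hpspan, hpI, hann⟩ := exists_params I 𝔮 hIq n (8 * E) d hn (by omega) hpow hd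
  letI : Algebra (MvPolynomial (Fin d) k) Λ := (aeval p).toRingHom.toAlgebra
  haveI : IsScalarTower k (MvPolynomial (Fin d) k) Λ :=
    IsScalarTower.of_algebraMap_eq fun x => ((aeval p).commutes x).symm
  have hXp : ∀ i, algebraMap (MvPolynomial (Fin d) k) Λ (X i) = p i := fun i => by
    change (aeval p).toRingHom (X i) = _
    simp
  choose z hz using fun i => Ideal.mem_span_range_iff_exists_fun.mp (hIspan ▸ hpI i)
  obtain ⟨φC, hφC⟩ := huniv Λ φ z (fun i => by rw [hXp]; exact (hz i).symm)
  have hpq : ∀ i, p i ∈ 𝔮 := fun i => by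
    have : f (p i) ∈ IsLocalRing.maximalIdeal Lq := by
      rw [← hqm, ← hpspan]
      exact Ideal.subset_span ⟨i, rfl⟩
    exact (IsLocalization.AtPrime.to_map_mem_maximal_iff Lq 𝔮 _).mp this
  -- the prime below
  let m₀ : Ideal (MvPolynomial (Fin d) k) := Ideal.span (Set.range X)
  have hm₀ : m₀ = RingHom.ker (constantCoeff (R := k) (σ := Fin d)) := by
    refine le_antisymm (Ideal.span_le.mpr ?_) fun x hx => ?_
    · rintro _ ⟨i, rfl⟩
      simp
    · change constantCoeff x = 0 at hx
      change x ∈ Ideal.span (Set.range X)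
      rw [← Set.image_univ]
      refine mem_ideal_span_X_image.mpr fun mo hmo => ?_
      by_contra hne
      push Not at hne
      have : mo = 0 := Finsupp.ext fun i => hne i (Set.mem_univ i)
      rw [this, mem_support_iff] at hmo
      exact hmo hx
  haveI hm₀max : m₀.IsMaximal := hm₀ ▸ RingHom.ker_isMaximal_of_surjective _ fun c => ⟨MvPolynomial.C c, constantCoeff_C _ c⟩
  have hcomap : 𝔮.comap (algebraMap (MvPolynomial (Fin d) k) Λ) = m₀ :=
    (hm₀max.eq_of_le (Ideal.IsPrime.ne_top inferInstance) (Ideal.span_le.mpr (by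
      rintro _ ⟨i, rfl⟩
      change algebraMap (MvPolynomial (Fin d) k) Λ (X i) ∈ 𝔮
      rw [hXp]
      exact hpq i))).symm
  -- flatness at the prime
  haveI hflat : Module.Flat (MvPolynomial (Fin d) k) Lq := by
    let Rm := Localization.AtPrime m₀
    haveI : IsRegularLocalRing Rm := IsRegularRing.isRegularLocalRing_localization m₀
    let j : Rm →ₐ[MvPolynomial (Fin d) k] Lq :=
      IsLocalization.liftAlgHom (M := m₀.primeCompl) (f := Algebra.ofId (MvPolynomial (Fin d) k) Lq) (fun y => by
        change IsUnit (algebraMap (MvPolynomial (Fin d) k) Lq y)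
        rw [IsScalarTower.algebraMap_apply (MvPolynomial (Fin d) k) Λ Lq]
        exact IsLocalization.map_units Lq (⟨_, fun h => y.2 ((SetLike.ext_iff.mp hcomap _).mp h)⟩ : 𝔮.primeCompl))
    letI : Algebra Rm Lq := j.toRingHom.toAlgebra
    haveI : IsScalarTower (MvPolynomial (Fin d) k) Rm Lq := IsScalarTower.of_algebraMap_eq fun x => (j.commutes x).symm
    let xs : Fin d → Rm := fun i => algebraMap (MvPolynomial (Fin d) k) Rm (X i)
    have hxs : Ideal.span (Set.range xs) = IsLocalRing.maximalIdeal Rm := by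
      rw [← Localization.AtPrime.map_eq_maximalIdeal, Ideal.map_span, ← Set.range_comp]
      rfl
    have hdimR : ringKrullDim Rm = d := by
      obtain ⟨a', b', ha', hb', hab'⟩ := Groth.Agent.SyntLib.height_add_dim_poly m₀
      letI : Field (MvPolynomial (Fin d) k ⧸ m₀) := Ideal.Quotient.field m₀
      rw [ringKrullDim_eq_zero_of_field] at hb'
      have hb0 : b' = 0 := by exact_mod_cast hb'.symm
      rw [IsLocalization.AtPrime.ringKrullDim_eq_height m₀ Rm, ha']
      exact_mod_cast (show a' = d by omega)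
    have hxL : ∀ i, algebraMap Rm Lq (xs i) = f (p i) := fun i => by
      change algebraMap Rm Lq (algebraMap (MvPolynomial (Fin d) k) Rm (X i)) = _
      rw [← IsScalarTower.algebraMap_apply, IsScalarTower.algebraMap_apply (MvPolynomial (Fin d) k) Λ Lq, hXp]
    haveI : IsLocalHom (algebraMap Rm Lq) := by
      refine ((IsLocalRing.local_hom_TFAE (algebraMap Rm Lq)).out 0 2).mpr ?_
      rw [← hxs, Ideal.map_span, Ideal.span_le]
      rintro _ ⟨_, ⟨i, rfl⟩, rfl⟩
      rw [hxL]
      exact (IsLocalization.AtPrime.to_map_mem_maximal_iff Lq 𝔮 _).mpr (hpq i)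
    have hwL : RingTheory.Sequence.IsWeaklyRegular Lq (List.ofFn fun i => algebraMap Rm Lq (xs i)) :=
      isWeaklyRegular_of_span_eq_maximalIdeal d hd _ (by simp only [hxL]; rw [← hqm]; exact hpspan)
    rw [show (List.ofFn fun i => algebraMap Rm Lq (xs i)) = (List.ofFn xs).map (algebraMap Rm Lq) by
      rw [List.map_ofFn]; rfl, RingTheory.Sequence.isWeaklyRegular_map_algebraMap_iff] at hwL
    haveI : Module.Flat Rm Lq := Groth.Agent.SerreReg.flat_of_regular_rsop d Rm hdimR (List.ofFn xs) (by simp)
      (isWeaklyRegular_of_span_eq_maximalIdeal d hdimR xs hxs) (by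
        rw [← hxs, Ideal.ofList]
        congr 1
        ext x
        simp [List.mem_ofFn, eq_comm]) Lq hwL
    haveI : Module.Flat (MvPolynomial (Fin d) k) Rm := IsLocalization.flat Rm m₀.primeCompl
    exact Module.Flat.trans (MvPolynomial (Fin d) k) Rm Lq
  -- the reduced problem
  let π' : Fin d → MvPolynomial (Fin d) k := fun i => X i ^ E
  let K : Ideal (MvPolynomial (Fin d) k) := Ideal.span (Set.range fun i => π' i ^ 8)
  let L' := Lq ⧸ (K.map (algebraMap (MvPolynomial (Fin d) k) Λ)).map f
  let Λ' := Λ ⧸ K.map (algebraMap (MvPolynomial (Fin d) k) Λ)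
  let R' := MvPolynomial (Fin d) k ⧸ K
  have hKm : K ≤ m₀ := Ideal.span_le.mpr (by
    rintro _ ⟨i, rfl⟩
    exact Ideal.pow_mem_of_mem _ (Ideal.pow_mem_of_mem _ (show X i ∈ m₀ from Ideal.subset_span ⟨i, rfl⟩) E hE) 8 (by omega))
  have hKq : K.map (algebraMap (MvPolynomial (Fin d) k) Λ) ≤ 𝔮 :=
    Ideal.map_le_iff_le_comap.mpr (hcomap ▸ hKm)
  haveI hq'prime : (𝔮.map (Ideal.Quotient.mk (K.map (algebraMap (MvPolynomial (Fin d) k) Λ)))).IsPrime :=
    Ideal.map_isPrime_of_surjective Ideal.Quotient.mk_surjective (by rwa [Ideal.mk_ker])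
  let q' : Ideal Λ' := 𝔮.map (Ideal.Quotient.mk (K.map (algebraMap (MvPolynomial (Fin d) k) Λ)))
  have hq'mem : ∀ x, Ideal.Quotient.mk (K.map (algebraMap (MvPolynomial (Fin d) k) Λ)) x ∈ q' ↔ x ∈ 𝔮 := fun x => by
    refine ⟨fun h => ?_, Ideal.mem_map_of_mem _⟩
    have h2 : x ∈ q'.comap (Ideal.Quotient.mk (K.map (algebraMap (MvPolynomial (Fin d) k) Λ))) := h
    rwa [Ideal.comap_map_of_surjective' _ Ideal.Quotient.mk_surjective, Ideal.mk_ker, sup_eq_left.mpr hKq] at h2
  haveI : IsLocalization.AtPrime L' q' := by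
    have hM : q'.primeCompl = Algebra.algebraMapSubmonoid Λ' 𝔮.primeCompl := by
      ext y
      refine ⟨fun hy => ?_, ?_⟩
      · obtain ⟨x, rfl⟩ := Ideal.Quotient.mk_surjective y
        exact ⟨x, fun h => hy ((hq'mem x).mpr h), rfl⟩
      · rintro ⟨x, hx, rfl⟩ h
        exact hx ((hq'mem x).mp h)
    change IsLocalization q'.primeCompl L'
    rw [hM]
    infer_instance
  letI : Algebra R' L' := ((algebraMap Λ' L').comp (algebraMap R' Λ')).toAlgebra
  haveI : IsScalarTower R' Λ' L' := IsScalarTower.of_algebraMap_eq fun _ => rfl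
  haveI : IsScalarTower (MvPolynomial (Fin d) k) R' L' := ⟨fun x y z => by
    obtain ⟨y, rfl⟩ := Ideal.Quotient.mk_surjective y
    obtain ⟨z, rfl⟩ := Ideal.Quotient.mk_surjective (z : L')
    change Ideal.Quotient.mk ((K.map (algebraMap (MvPolynomial (Fin d) k) Λ)).map f) (f (algebraMap (MvPolynomial (Fin d) k) Λ (x * y)) * z) =
      Ideal.Quotient.mk ((K.map (algebraMap (MvPolynomial (Fin d) k) Λ)).map f) (x • (f (algebraMap (MvPolynomial (Fin d) k) Λ y) * z))
    rw [Algebra.smul_def, IsScalarTower.algebraMap_apply (MvPolynomial (Fin d) k) Λ Lq]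
    simp only [f, map_mul, mul_assoc]⟩
  haveI : IsScalarTower k R' L' := ⟨fun x y z => by
    rw [← algebraMap_smul (MvPolynomial (Fin d) k) x y, smul_assoc, algebraMap_smul]⟩
  haveI : Module.Flat R' L' := by
    let eL : (R' ⊗[MvPolynomial (Fin d) k] Lq) ≃ₗ[MvPolynomial (Fin d) k] L' :=
      ((TensorProduct.comm (MvPolynomial (Fin d) k) _ _).trans
        ((Ideal.qoutMapEquivTensorQout Lq (I := K)).symm.restrictScalars (MvPolynomial (Fin d) k))).trans
        (Ideal.quotientEquivAlgOfEq (MvPolynomial (Fin d) k) (show K.map (algebraMap (MvPolynomial (Fin d) k) Lq) =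
          (K.map (algebraMap (MvPolynomial (Fin d) k) Λ)).map f by
            rw [Ideal.map_map, ← IsScalarTower.algebraMap_eq])).toLinearEquiv
    exact Module.Flat.of_linearEquiv (LinearEquiv.extendScalarsOfSurjective
      (show Function.Surjective (algebraMap (MvPolynomial (Fin d) k) R') from Ideal.Quotient.mk_surjective) eL).symm
  let I' : Ideal R' := m₀.map (Ideal.Quotient.mk K)
  have hI'nil : ∃ N, I' ^ (N + 1) = ⊥ := by
    have hrad : m₀ ≤ K.radical := Ideal.span_le.mpr (by
      rintro _ ⟨i, rfl⟩
      exact ⟨E * 8, by rw [pow_mul]; exact Ideal.subset_span ⟨i, rfl⟩⟩)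
    obtain ⟨N, hN⟩ := Ideal.exists_radical_pow_le_of_fg K (IsNoetherian.noetherian _)
    refine ⟨N, le_bot_iff.mp ?_⟩
    rw [← Ideal.map_pow, ← Ideal.map_quotient_self K]
    exact Ideal.map_mono (((Ideal.pow_le_pow_right (Nat.le_succ N)).trans (Ideal.pow_right_mono hrad N)).trans hN)
  obtain ⟨N, hN⟩ := hI'nil
  have hbij : Function.Bijective (algebraMap k (R' ⧸ I')) := by
    haveI : Nontrivial (R' ⧸ I') := Ideal.Quotient.nontrivial_iff.mpr fun h => by
      have h1 : (1 : R') ∈ I' := h ▸ Submodule.mem_top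
      obtain ⟨x, hx, hx1⟩ := (Ideal.mem_map_iff_of_surjective _ Ideal.Quotient.mk_surjective).mp h1
      have h2 := hKm (Ideal.Quotient.eq.mp (hx1.trans (map_one (Ideal.Quotient.mk K)).symm))
      exact hm₀max.ne_top ((Ideal.eq_top_iff_one _).mpr (by simpa using sub_mem hx h2))
    refine ⟨(algebraMap k (R' ⧸ I')).injective, fun y => ?_⟩
    obtain ⟨y, rfl⟩ := Ideal.Quotient.mk_surjective y
    obtain ⟨y, rfl⟩ := Ideal.Quotient.mk_surjective y
    refine ⟨constantCoeff y, Ideal.Quotient.eq.mpr ?_⟩
    change Ideal.Quotient.mk K (MvPolynomial.C (constantCoeff y)) - Ideal.Quotient.mk K y ∈ I'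
    rw [← map_sub]
    refine Ideal.mem_map_of_mem _ ?_
    rw [hm₀, RingHom.mem_ker, map_sub, constantCoeff_C, sub_self]
  have hI'map : I'.map (algebraMap R' L') = (IsLocalRing.maximalIdeal Lq).map (Ideal.Quotient.mk ((K.map (algebraMap (MvPolynomial (Fin d) k) Λ)).map f)) := by
    rw [← hqm, ← hpspan]
    refine (Ideal.map_map _ _).trans ((Ideal.map_span _ _).trans (Eq.trans ?_ (Ideal.map_span _ _).symm))
    rw [← Set.range_comp, ← Set.range_comp]
    congr 1
    refine congrArg Set.range (funext fun i => ?_)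
    change Ideal.Quotient.mk _ (f (algebraMap (MvPolynomial (Fin d) k) Λ (X i))) = _
    rw [hXp]
    rfl
  have hKfm : (K.map (algebraMap (MvPolynomial (Fin d) k) Λ)).map f ≤ IsLocalRing.maximalIdeal Lq :=
    hqm ▸ Ideal.map_mono hKq
  have hmax : (I'.map (algebraMap R' L')).IsMaximal := by
    rw [hI'map]
    exact Ideal.IsMaximal.map_of_surjective_of_ker_le Ideal.Quotient.mk_surjective (by rwa [Ideal.mk_ker])
  let ρ : L' →ₐ[k] 𝔮.ResidueField :=
    Ideal.Quotient.liftₐ _ (IsScalarTower.toAlgHom k Lq 𝔮.ResidueField) (fun x hx =>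
      (IsLocalRing.residue_eq_zero_iff x).mpr (hKfm hx))
  have hind : Smoothing.IndSmooth R' L' := indSmooth_artinian I' N hN hbij hmax 𝔮.ResidueField ρ (by
    rw [hI'map]
    refine Ideal.map_le_iff_le_comap.mpr fun x hx => ?_
    exact (IsLocalRing.residue_eq_zero_iff x).mpr hx)
  haveI : Algebra.FinitePresentation (MvPolynomial (Fin d) k) (C ⧸ K.map (algebraMap (MvPolynomial (Fin d) k) C)) :=
    Algebra.FinitePresentation.quotient (Ideal.FG.map (IsNoetherian.noetherian K) _)
  haveI : Algebra.FinitePresentation R' (C ⧸ K.map (algebraMap (MvPolynomial (Fin d) k) C)) :=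
    Algebra.FinitePresentation.of_restrict_scalars_finitePresentation (MvPolynomial (Fin d) k) R' _
  let φK : (C ⧸ K.map (algebraMap (MvPolynomial (Fin d) k) C)) →ₐ[R'] Λ' :=
    { Ideal.quotientMap (K.map (algebraMap (MvPolynomial (Fin d) k) Λ)) φC.toRingHom
        (Ideal.map_le_iff_le_comap.mpr fun x hx => by
          rw [Ideal.mem_comap, Ideal.mem_comap]
          change φC (algebraMap _ C x) ∈ _
          rw [φC.commutes]
          exact Ideal.mem_map_of_mem _ hx) with
      commutes' := fun x => by
        obtain ⟨x, rfl⟩ := Ideal.Quotient.mk_surjective x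
        change Ideal.Quotient.mk _ (φC (algebraMap _ C x)) = Ideal.Quotient.mk _ (algebraMap _ Λ x)
        rw [φC.commutes] }
  obtain ⟨B₁, _, _, hB₁, g₁, h₁, hgh₁⟩ := hind _ inferInstance ((IsScalarTower.toAlgHom R' Λ' L').comp φK)
  haveI := hB₁
  haveI : IsScalarTower R' R' B₁ := ⟨fun a b c => mul_smul a b c⟩
  have hI'max : ∀ x : R', x ∉ q'.comap (algebraMap R' Λ') → IsUnit x := by
    intro x hx
    obtain ⟨x, rfl⟩ := Ideal.Quotient.mk_surjective x
    have hxm : x ∉ m₀ := fun h => hx ((hq'mem _).mpr (hcomap ▸ h : x ∈ 𝔮.comap (algebraMap (MvPolynomial (Fin d) k) Λ)))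
    obtain ⟨y, w, hw, hyw⟩ := hm₀max.exists_inv hxm
    have hnil : IsNilpotent (Ideal.Quotient.mk K w) :=
      ⟨N + 1, by rw [← Ideal.mem_bot, ← hN]; exact Ideal.pow_mem_pow (Ideal.mem_map_of_mem _ hw) _⟩
    have h1 : Ideal.Quotient.mk K y * Ideal.Quotient.mk K x = 1 - Ideal.Quotient.mk K w := by
      rw [← map_mul, ← map_one (Ideal.Quotient.mk K), ← hyw, map_add, add_sub_cancel_right]
    exact isUnit_of_mul_isUnit_right (h1 ▸ hnil.isUnit_one_sub)
  haveI : IsLocalization.AtPrime R' (q'.comap (algebraMap R' Λ')) :=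
    IsLocalization.of_le_isUnit fun x hx => hI'max x hx
  obtain ⟨C₂, _, _, hC₂, α₂, β₂, hβα₂, hsing₂⟩ := exists_spread (Rₚ := R') (Λq := L') φK q' g₁ h₁
    (fun x => AlgHom.congr_fun hgh₁ x)
  haveI := hC₂
  have hres : Smoothing.Resolvable R' φK q' := by
    refine resolvable_of_factor φK q' α₂ β₂ hβα₂ hsing₂ fun x hx => ?_
    have h1 : algebraMap Λ' L' x ∈ I'.map (algebraMap R' L') := by
      rw [hI'map]
      obtain ⟨x, rfl⟩ := Ideal.Quotient.mk_surjective x
      exact Ideal.mem_map_of_mem _ ((IsLocalization.AtPrime.to_map_mem_maximal_iff Lq 𝔮 x).mpr ((hq'mem x).mp hx))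
    have h2 : algebraMap Λ' L' x ^ (N + 1) = 0 := by
      rw [← Ideal.mem_bot, ← Ideal.map_bot (f := algebraMap R' L'), ← hN, Ideal.map_pow]
      exact Ideal.pow_mem_pow h1 _
    rw [← map_pow] at h2
    obtain ⟨s, hs⟩ := (IsLocalization.map_eq_zero_iff q'.primeCompl L' _).mp h2
    exact ⟨N + 1, s, s.2, hs⟩
  obtain ⟨B, _, _, hBfp, g, h, hgh, hle, hnle⟩ : Smoothing.Resolvable (MvPolynomial (Fin d) k) φC 𝔮 := by
    exact Groth.Agent.S6822.general φC 𝔮 π'
        (fun i => by rw [map_pow, hXp]; exact Ideal.pow_mem_of_mem _ (hpq i) E hE)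
        (fun i x hx => by
          obtain ⟨x, rfl⟩ := Ideal.Quotient.mk_surjective x
          rw [← map_pow, ← map_mul, Ideal.Quotient.eq_zero_iff_mem] at hx
          rw [← map_mul, Ideal.Quotient.eq_zero_iff_mem]
          have hmono : (fun j : {j : Fin d // (j : ℕ) < (i : ℕ)} => π' j ^ 8) =
              (fun s => monomial s (1 : k)) ∘ fun j : {j : Fin d // (j : ℕ) < (i : ℕ)} => Finsupp.single (j : Fin d) (E * 8) := by
            funext j
            simp only [π', Function.comp_apply]
            rw [← pow_mul, X_pow_eq_monomial]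
          rw [hmono, Set.range_comp, mem_ideal_span_monomial_image] at hx ⊢
          intro mo hmo
          have e : π' i * x = monomial (Finsupp.single i E) 1 * x := by simp [π', X_pow_eq_monomial]
          have e2 : π' i ^ 2 * x = monomial (Finsupp.single i (E * 2)) 1 * x := by
            simp only [π']
            rw [← pow_mul, X_pow_eq_monomial]
          rw [e, mem_support_iff, coeff_monomial_mul'] at hmo
          split at hmo
          swap
          · exact absurd rfl hmo
          next hEle =>
            have hm2 : mo + Finsupp.single i E ∈ (π' i ^ 2 * x).support := by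
              have hs : Finsupp.single i (E * 2) = Finsupp.single i E + Finsupp.single i E := by
                rw [← Finsupp.single_add, Nat.mul_two]
              rw [e2, mem_support_iff, coeff_monomial_mul', if_pos (by rw [hs]; exact add_le_add_left hEle _)]
              convert hmo using 3
              rw [hs]
              ext l
              simp only [Finsupp.tsub_apply, Finsupp.add_apply]
              omega
            obtain ⟨_, ⟨j, rfl⟩, hj⟩ := hx _ hm2
            refine ⟨_, ⟨j, rfl⟩, fun l => ?_⟩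
            have hjl := hj l
            rcases eq_or_ne l (j : Fin d) with rfl | hl
            · have hne : (i : Fin d) ≠ (j : Fin d) := fun h => by have := j.2; rw [← h] at this; omega
              simpa [Finsupp.single_apply, hne] using hjl
            · simp [Finsupp.single_apply, Ne.symm hl])
        (fun i x hx => by
          obtain ⟨x, rfl⟩ := Ideal.Quotient.mk_surjective x
          rw [← map_pow, ← map_mul, Ideal.Quotient.eq_zero_iff_mem] at hx
          rw [← map_mul, Ideal.Quotient.eq_zero_iff_mem]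
          have hJ : (fun j : {j : Fin d // (j : ℕ) < (i : ℕ)} => algebraMap (MvPolynomial (Fin d) k) Λ (π' j) ^ 8) =
              fun j : {j : Fin d // (j : ℕ) < (i : ℕ)} => p j ^ (8 * E) := by
            funext j
            rw [map_pow, hXp, ← pow_mul, mul_comm]
          rw [hJ, map_pow, hXp] at hx ⊢
          obtain ⟨E', rfl⟩ : ∃ E', E = E' + 1 := ⟨E - 1, by omega⟩
          have hann' : ∀ y, p i ^ 2 * y ∈ Ideal.span (Set.range fun j : {j : Fin d // (j : ℕ) < (i : ℕ)} => p j ^ (8 * (E' + 1))) →
              p i * y ∈ Ideal.span (Set.range fun j : {j : Fin d // (j : ℕ) < (i : ℕ)} => p j ^ (8 * (E' + 1))) := fun y hy => by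
            have := hann i (Ideal.Quotient.mk _ y) (by rw [← map_pow, ← map_mul, Ideal.Quotient.eq_zero_iff_mem]; exact hy)
            rwa [← map_mul, Ideal.Quotient.eq_zero_iff_mem] at this
          have := mul_pow_eq_zero_iterate _ (p i) hann' (2 * E' + 1) x (by convert hx using 1; ring)
          rw [show p i ^ (E' + 1) * x = p i ^ E' * (p i * x) by ring]
          exact Ideal.mul_mem_left _ _ this)
        hstd K rfl φK (fun _ => rfl) hres
  haveI := hBfp
  letI : Algebra k B := ((algebraMap (MvPolynomial (Fin d) k) B).comp (algebraMap k (MvPolynomial (Fin d) k))).toAlgebra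
  haveI : IsScalarTower k (MvPolynomial (Fin d) k) B := IsScalarTower.of_algebraMap_eq fun _ => rfl
  have hsub : Smoothing.singularIdeal (MvPolynomial (Fin d) k) B ≤ Smoothing.singularIdeal k B := by
    intro x hx
    haveI : Algebra.Smooth (MvPolynomial (Fin d) k) (Localization.Away x) :=
      Algebra.basicOpen_subset_smoothLocus_iff_smooth.mp (basicOpen_subset_of_mem_singularIdeal hx)
    haveI : Algebra.FinitePresentation k B := Algebra.FinitePresentation.trans k (MvPolynomial (Fin d) k) B
    haveI : Algebra.FinitePresentation k (Localization.Away x) :=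
      Algebra.FinitePresentation.trans k (MvPolynomial (Fin d) k) (Localization.Away x)
    haveI : Algebra.FormallySmooth k (Localization.Away x) :=
      Algebra.FormallySmooth.comp k (MvPolynomial (Fin d) k) (Localization.Away x)
    haveI : Algebra.Smooth k (Localization.Away x) := ⟨inferInstance, inferInstance⟩
    exact mem_singularIdeal_of_smooth_away x
  have hmono : Smoothing.singRad (MvPolynomial (Fin d) k) h ≤ Smoothing.singRad k (h.restrictScalars k) :=
    Ideal.radical_mono (Ideal.map_le_iff_le_comap.mpr fun x hx =>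
      Ideal.mem_map_of_mem (h.restrictScalars k) (hsub hx))
  refine ⟨B, inferInstance, inferInstance, Algebra.FinitePresentation.trans k (MvPolynomial (Fin d) k) B,
    (g.restrictScalars k).comp α, h.restrictScalars k, AlgHom.ext fun x => ?_, ?_, fun hc => hnle (hmono.trans hc)⟩
  · change (h.comp g) (α x) = φ x
    rw [hgh, hφC]
  · refine le_trans ?_ hmono
    refine (Ideal.IsRadical.radical_le_iff (Ideal.radical_isRadical _)).mpr ?_
    change I ≤ _
    rw [hIspan, Ideal.span_le]
    rintro _ ⟨j, rfl⟩
    change φ (a j) ∈ _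
    rw [← hφC]
    exact hle (Ideal.le_radical (Ideal.mem_map_of_mem φC (haC j)))

end Groth.Agent.Desing
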